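/-
The group of order 4m² made from two dihedral groups of order 2m with linked reflections and their exchange:
the Sylow 2-subgroups of G2(q), q odd.
-/
import Mathlib

set_option autoImplicit false

namespace CfsgLib.G2Sylow

/-- An element: two rotations, the reflection flag and the exchange flag. -/
@[ext]
structure W (m : ℕ) where
  i : ZMod m
  j : ZMod m
  e : Bool
  s : Bool
deriving DecidableEq

variable {m : ℕ}

/-- The sign of the reflection flag. -/
def sg (e : Bool) (x : ZMod m) : ZMod m := if e then -x else x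

instance : Mul (W m) := ⟨fun a b => ⟨a.i + sg a.e (if a.s then b.j else b.i), a.j + sg a.e (if a.s then b.i else b.j),
  Bool.xor a.e b.e, Bool.xor a.s b.s⟩⟩
instance : One (W m) := ⟨⟨0, 0, false, false⟩⟩
instance : Inv (W m) := ⟨fun a => ⟨-sg a.e (if a.s then a.j else a.i), -sg a.e (if a.s then a.i else a.j), a.e, a.s⟩⟩

theorem mul_def (a b : W m) : a * b = ⟨a.i + sg a.e (if a.s then b.j else b.i),
    a.j + sg a.e (if a.s then b.i else b.j), Bool.xor a.e b.e, Bool.xor a.s b.s⟩ := rfl

theorem one_def : (1 : W m) = ⟨0, 0, false, false⟩ := rfl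

theorem inv_def (a : W m) : a⁻¹ = ⟨-sg a.e (if a.s then a.j else a.i), -sg a.e (if a.s then a.i else a.j), a.e, a.s⟩ :=
  rfl

instance : Group (W m) where
  mul_assoc := by
    rintro ⟨i, j, e, s⟩ ⟨i', j', e', s'⟩ ⟨i'', j'', e'', s''⟩
    cases e <;> cases s <;> cases e' <;> cases s' <;> simp [mul_def, sg] <;> constructor <;> ring
  one_mul := by rintro ⟨i, j, e, s⟩; simp [mul_def, one_def, sg]
  mul_one := by rintro ⟨i, j, e, s⟩; cases e <;> cases s <;> simp [mul_def, one_def, sg]
  inv_mul_cancel := by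
    rintro ⟨i, j, e, s⟩
    cases e <;> cases s <;> simp [mul_def, one_def, inv_def, sg]

/-- The underlying product. -/
def equivProd : W m ≃ ZMod m × ZMod m × Bool × Bool where
  toFun w := (w.i, w.j, w.e, w.s)
  invFun p := ⟨p.1, p.2.1, p.2.2.1, p.2.2.2⟩
  left_inv _ := rfl
  right_inv _ := rfl

instance [NeZero m] : Fintype (W m) := Fintype.ofEquiv _ equivProd.symm

theorem card_W [NeZero m] : Nat.card (W m) = 4 * m ^ 2 := by
  rw [Nat.card_congr equivProd, Nat.card_prod, Nat.card_prod, Nat.card_prod, Nat.card_zmod,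
    Nat.card_eq_fintype_card (α := Bool), Fintype.card_bool]
  ring

/-- A rotation. -/
def rot (i j : ZMod m) : W m := ⟨i, j, false, false⟩
/-- A reflection. -/
def refl (i j : ZMod m) : W m := ⟨i, j, true, false⟩
/-- The exchange. -/
def swp : W m := ⟨0, 0, false, true⟩
/-- The exchange with the reflection. -/
def swr : W m := ⟨0, 0, true, true⟩

/-- The kernel of the reflection flag. -/
def Ke : Subgroup (W m) where
  carrier := {w | w.e = false}
  mul_mem' := by intro a b ha hb; simp_all [mul_def]
  one_mem' := rfl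
  inv_mem' := by intro a ha; simp_all [inv_def]

/-- The kernel of the exchange flag. -/
def Ks : Subgroup (W m) where
  carrier := {w | w.s = false}
  mul_mem' := by intro a b ha hb; simp_all [mul_def]
  one_mem' := rfl
  inv_mem' := by intro a ha; simp_all [inv_def]

theorem mem_Ke {w : W m} : w ∈ (Ke : Subgroup (W m)) ↔ w.e = false := Iff.rfl
theorem mem_Ks {w : W m} : w ∈ (Ks : Subgroup (W m)) ↔ w.s = false := Iff.rfl

theorem index_Ke : (Ke : Subgroup (W m)).index = 2 := by
  refine Subgroup.index_eq_two_iff.mpr ⟨refl 0 0, fun b => ?_⟩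
  cases h : b.e <;> simp [mem_Ke, mul_def, refl, h, Xor']

theorem index_Ks : (Ks : Subgroup (W m)).index = 2 := by
  refine Subgroup.index_eq_two_iff.mpr ⟨swp, fun b => ?_⟩
  cases h : b.s <;> simp [mem_Ks, mul_def, swp, h, Xor']

theorem commutator_flags (a b : W m) : (a * b * a⁻¹ * b⁻¹).e = false ∧ (a * b * a⁻¹ * b⁻¹).s = false := by
  obtain ⟨i, j, e, s⟩ := a
  obtain ⟨i', j', e', s'⟩ := b
  cases e <;> cases s <;> cases e' <;> cases s' <;> simp [mul_def, inv_def]

/-- The central involution. -/
abbrev zc (h : ℕ) : W m := rot h h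
/-- A non-central rotation involution. -/
abbrev uc (h : ℕ) : W m := rot h 0

section half
variable {h : ℕ} (hm : m = 2 * h)
include hm

theorem two_h : (h : ZMod m) + h = 0 := by
  rw [← Nat.cast_add, ← two_mul, ← hm, ZMod.natCast_self]

theorem h_ne [NeZero m] : (h : ZMod m) ≠ 0 := fun e => by
  rw [ZMod.natCast_eq_zero_iff] at e
  have := Nat.le_of_dvd (by have := NeZero.ne m; omega) e
  have := NeZero.ne m
  omega

theorem two_torsion [NeZero m] {x : ZMod m} (hx : x + x = 0) : x = 0 ∨ x = h := by
  have h1 : m ∣ x.val + x.val := by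
    rw [← ZMod.natCast_eq_zero_iff, Nat.cast_add, ZMod.natCast_zmod_val]; exact hx
  have h2 := ZMod.val_lt x
  obtain ⟨k, hk⟩ := h1
  have hk2 : k < 2 := by
    by_contra hk2
    have := Nat.mul_le_mul_left m (show 2 ≤ k by omega)
    omega
  interval_cases k
  · exact Or.inl ((ZMod.val_eq_zero x).mp (by omega))
  · exact Or.inr (by rw [← ZMod.natCast_zmod_val x]; congr 1; omega)

/-- Parity. -/
def par : ZMod m →+* ZMod 2 := ZMod.castHom (hm ▸ Dvd.intro h rfl) (ZMod 2)

theorem par_add_self (x : ZMod m) : par hm (x + x) = 0 := by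
  rw [map_add, CharTwo.add_self_eq_zero]

theorem exists_half [NeZero m] (x : ZMod m) (e : par hm x = 0) : ∃ a : ZMod m, x = a + a := by
  rw [← ZMod.natCast_zmod_val x, map_natCast, ZMod.natCast_eq_zero_iff] at e
  obtain ⟨k, hk⟩ := e
  exact ⟨(k : ZMod m), by rw [← Nat.cast_add, ← two_mul, ← hk, ZMod.natCast_zmod_val]⟩

theorem par_h (h2 : Even h) : par hm (h : ZMod m) = 0 := by
  rw [map_natCast, ZMod.natCast_eq_zero_iff]
  exact even_iff_two_dvd.mp h2

theorem zc_central (w : W m) : w * zc h = zc h * w := by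
  obtain ⟨i, j, e, s⟩ := w
  have h1 : -(h : ZMod m) = h := neg_eq_of_add_eq_zero_left (two_h hm)
  cases e <;> cases s <;> simp [mul_def, rot, sg, h1, add_comm]

variable [NeZero m]

/-- A central involution is `zc`. -/
theorem eq_zc (h4 : 4 ≤ m) {w : W m} (hw : w * w = 1) (hw1 : w ≠ 1) (hc : ∀ v, v * w = w * v) : w = zc h := by
  obtain ⟨i, j, e, s⟩ := w
  have c1 := hc swp
  have c2 := hc (rot 1 0)
  cases e <;> cases s <;> simp [mul_def, swp, rot, sg] at c1 c2
  · simp [mul_def, one_def, sg] at hw hw1
    rcases two_torsion hm hw.1 with rfl | rfl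
    · exact absurd rfl (hw1 · c1.1)
    · simp [rot, c1.1]
  all_goals
    exfalso
    have h2 : (2 : ZMod m) = 0 := by
      first
        | linear_combination c2
        | linear_combination (2 : ZMod m) * c2
    rw [show (2 : ZMod m) = ((2 : ℕ) : ZMod m) by simp, ZMod.natCast_eq_zero_iff] at h2
    exact absurd (Nat.le_of_dvd two_pos h2) (by omega)

/-- The representatives of the involutions. -/
theorem reps {w : W m} (hw : w * w = 1) (hw1 : w ≠ 1) :
    ∃ r ∈ [zc h, uc h, refl 0 0, refl 1 1, refl 1 0, swp, swr], ∃ c, c * w * c⁻¹ = r := by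
  obtain ⟨i, j, e, s⟩ := w
  cases e <;> cases s <;> simp [mul_def, one_def, sg] at hw
  · rcases two_torsion hm hw.1 with rfl | rfl <;> rcases two_torsion hm hw.2 with rfl | rfl
    · exact absurd rfl hw1
    · exact ⟨uc h, by simp, swp, by simp [mul_def, inv_def, swp, rot, sg]⟩
    · exact ⟨uc h, by simp, 1, by simp [rot]⟩
    · exact ⟨zc h, by simp, 1, by simp [rot]⟩
  · refine ⟨swp, by simp, rot j 0, ?_⟩
    simp [mul_def, inv_def, swp, rot, sg]
    linear_combination hw.1
  · -- reflections by parity
    have key : ∀ r₁ r₂ : ZMod m, par hm i = par hm r₁ → par hm j = par hm r₂ →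
        ∃ c, c * (refl i j) * c⁻¹ = refl r₁ r₂ := by
      intro r₁ r₂ e1 e2
      obtain ⟨a, ha⟩ := exists_half hm (r₁ - i) (by rw [map_sub, e1, sub_self])
      obtain ⟨b, hb⟩ := exists_half hm (r₂ - j) (by rw [map_sub, e2, sub_self])
      exact ⟨rot a b, by simp [mul_def, inv_def, refl, rot, sg]; constructor
                         · linear_combination -ha
                         · linear_combination -hb⟩
    have p1 : ∀ x : ZMod 2, x = 0 ∨ x = 1 := by decide
    rcases p1 (par hm i) with e1 | e1 <;> rcases p1 (par hm j) with e2 | e2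
    · exact ⟨refl 0 0, by simp, key 0 0 (by simp [e1]) (by simp [e2])⟩
    · obtain ⟨c, hc⟩ := key 0 1 (by simp [e1]) (by simp [e2])
      refine ⟨refl 1 0, by simp, swp * c, ?_⟩
      rw [show swp * c * ⟨i, j, true, false⟩ * (swp * c)⁻¹ = swp * (c * refl i j * c⁻¹) * swp⁻¹ by
        rw [refl]; group, hc]
      simp [mul_def, inv_def, swp, refl, sg]
    · exact ⟨refl 1 0, by simp, key 1 0 (by simp [e1]) (by simp [e2])⟩
    · exact ⟨refl 1 1, by simp, key 1 1 (by simp [e1]) (by simp [e2])⟩
  · refine ⟨swr, by simp, rot (-i) 0, ?_⟩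
    simp [mul_def, inv_def, swr, rot, sg]
    linear_combination -hw.1

/-- A partner of a reflection of odd parity is a rotation or again such a reflection. -/
theorem comm_odd (h2 : Even h) {i j : ZMod m} (hodd : par hm (i + j) = 1) {w : W m} (hc : Commute w (refl i j)) :
    w.s = false ∧ (w.e = true → par hm (w.i + w.j) = 1) := by
  obtain ⟨a, b, e, s⟩ := w
  have h1 := hc.eq
  cases e <;> cases s <;> simp [mul_def, refl, sg] at h1 ⊢
  · have hp := congrArg (par hm) h1.1
    rw [map_add] at hodd
    simp only [map_add, map_sub, map_neg, CharTwo.neg_eq, CharTwo.sub_eq_add] at hp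
    grind
  · have ph := par_h hm h2
    have pa : ∀ x y : ZMod m, (x - y) + (x - y) = 0 → par hm x = par hm y := fun x y e => by
      rw [← sub_eq_zero, ← map_sub]
      rcases two_torsion hm e with e1 | e1 <;> simp [e1, ph]
    rw [pa a i (by linear_combination h1.1), pa b j (by linear_combination h1.2), ← map_add, hodd]
  · have hp := congrArg (par hm) h1.1
    rw [map_add] at hodd
    simp only [map_add, map_sub, map_neg, CharTwo.neg_eq, CharTwo.sub_eq_add] at hp
    grind

end half

end CfsgLib.G2Sylow
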