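/-
The Sylow 2-subgroups of G2(q), q odd.
-/
import Cfsg.Agent.Lib.G2Odd.Main
import Cfsg.Agent.Lib.Chev.Inst
import Cfsg.Agent.Lib.G2Sylow.Model
import Cfsg.Agent.Lib.Elementary
import Mathlib.Algebra.QuadraticAlgebra.Basic

set_option autoImplicit false
set_option linter.unusedSectionVars false

namespace CfsgLib.G2Sylow

open Matrix CfsgLib.G2Odd

section generic
variable {m : ℕ} [NeZero m] {H : Type*} [Group H]

/-- Four elements satisfying the relations of the model. -/
structure Rels (m : ℕ) (x y E S : H) : Prop where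
  xm : x ^ m = 1
  xy : Commute x y
  ee : E * E = 1
  ss : S * S = 1
  es : E * S = S * E
  ex : E * x * E = x⁻¹
  ey : E * y * E = y⁻¹
  sx : S * x * S = y

variable {x y E S : H}

theorem Rels.ym (R : Rels m x y E S) : y ^ m = 1 := by
  have hS : S⁻¹ = S := inv_eq_of_mul_eq_one_right R.ss
  have e : S * x * S⁻¹ = y := by rw [hS, R.sx]
  rw [← e, conj_pow, R.xm, mul_one, mul_inv_cancel]

theorem pow_val_add {g : H} (hg : g ^ m = 1) (a b : ZMod m) : g ^ (a + b).val = g ^ a.val * g ^ b.val := by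
  rw [← pow_add, ZMod.val_add, ← pow_eq_pow_mod _ hg]

theorem pow_val_neg {g : H} (hg : g ^ m = 1) (a : ZMod m) : g ^ (-a).val = (g ^ a.val)⁻¹ := by
  refine eq_inv_of_mul_eq_one_left ?_
  rw [← pow_val_add hg, neg_add_cancel, ZMod.val_zero, pow_zero]

/-- The flag part. -/
def fl (E S : H) (e s : Bool) : H := (if e then E else 1) * (if s then S else 1)

theorem Rels.fl_mul (R : Rels m x y E S) (e s e' s' : Bool) :
    fl E S e s * fl E S e' s' = fl E S (Bool.xor e e') (Bool.xor s s') := by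
  have h1 : ∀ a : H, E * (E * a) = a := fun a => by rw [← mul_assoc, R.ee, one_mul]
  have h2 : ∀ a : H, S * (S * a) = a := fun a => by rw [← mul_assoc, R.ss, one_mul]
  have h3 : ∀ a : H, S * (E * a) = E * (S * a) := fun a => by rw [← mul_assoc, ← R.es, mul_assoc]
  cases e <;> cases s <;> cases e' <;> cases s' <;> simp [fl, mul_assoc, h1, h2, h3, R.ee, R.ss, ← R.es]

theorem Rels.fl_pow (R : Rels m x y E S) (e s : Bool) (a b : ZMod m) :
    fl E S e s * (x ^ a.val * y ^ b.val) =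
      x ^ (sg e (if s then b else a)).val * y ^ (sg e (if s then a else b)).val * fl E S e s := by
  have hE : E⁻¹ = E := inv_eq_of_mul_eq_one_right R.ee
  have hS : S⁻¹ = S := inv_eq_of_mul_eq_one_right R.ss
  have sy : S * y * S = x := by
    rw [← R.sx, show S * (S * x * S) * S = (S * S) * x * (S * S) by group, R.ss, one_mul, mul_one]
  have cE : ∀ a b : ZMod m, E * (x ^ a.val * y ^ b.val) = x ^ (-a).val * y ^ (-b).val * E := by
    intro a b
    rw [pow_val_neg R.xm, pow_val_neg R.ym, ← inv_pow, ← inv_pow, ← R.ex, ← R.ey,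
      show E * x * E = E * x * E⁻¹ by rw [hE], show E * y * E = E * y * E⁻¹ by rw [hE], conj_pow, conj_pow]
    group
  have cS : ∀ a b : ZMod m, S * (x ^ a.val * y ^ b.val) = x ^ b.val * y ^ a.val * S := by
    intro a b
    rw [(R.xy.pow_pow b.val a.val).eq, show y ^ a.val = S * x ^ a.val * S⁻¹ by rw [← conj_pow, hS, R.sx],
      show x ^ b.val = S * y ^ b.val * S⁻¹ by rw [← conj_pow, hS, sy]]
    group
  cases e <;> cases s
  · simp [fl, sg]
  · simpa [fl, sg] using cS a b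
  · simpa [fl, sg] using cE a b
  · simp only [fl, sg, ite_true]
    rw [mul_assoc E S, cS, ← mul_assoc E, cE, mul_assoc]

theorem Rels.pow_mul' (R : Rels m x y E S) (a b c d : ZMod m) :
    x ^ a.val * y ^ b.val * (x ^ c.val * y ^ d.val) = x ^ (a + c).val * y ^ (b + d).val := by
  rw [pow_val_add R.xm, pow_val_add R.ym, mul_assoc (x ^ a.val), ← mul_assoc (y ^ b.val),
    ← (R.xy.pow_pow c.val b.val).eq]
  group

/-- The map of the model. -/
noncomputable def Rels.hom (R : Rels m x y E S) : W m →* H :=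
  MonoidHom.mk' (fun w => x ^ w.i.val * y ^ w.j.val * fl E S w.e w.s) fun a b => by
    obtain ⟨i, j, e, s⟩ := a
    obtain ⟨i', j', e', s'⟩ := b
    simp only [mul_def]
    rw [← R.pow_mul', ← R.fl_mul, mul_assoc (x ^ i.val * y ^ j.val) (fl E S e s) _,
      ← mul_assoc (fl E S e s) (x ^ i'.val * y ^ j'.val), R.fl_pow]
    group

theorem Rels.hom_zc (R : Rels m x y E S) {h : ℕ} (hh : h < m) : R.hom (zc h) = x ^ h * y ^ h := by
  show x ^ (h : ZMod m).val * y ^ (h : ZMod m).val * fl E S false false = _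
  simp [fl, ZMod.val_natCast, Nat.mod_eq_of_lt hh]

/-- A map not killing the central involution is injective. -/
theorem Rels.hom_injective (R : Rels m x y E S) {n h : ℕ} (hm2 : m = 2 ^ n) (hm : m = 2 * h) (h4 : 4 ≤ m)
    (hz : x ^ h * y ^ h ≠ 1) : Function.Injective R.hom := by
  haveI : Fact (Nat.Prime 2) := ⟨Nat.prime_two⟩
  have hW : IsPGroup 2 (W m) := IsPGroup.of_card (n := 2 + 2 * n) (by rw [card_W, hm2]; ring)
  haveI := hW.isNilpotent
  rw [← R.hom.ker_eq_bot_iff]
  by_contra hne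
  have hZ := CfsgLib.inf_center_ne_bot_of_nilpotent (N := R.hom.ker) hne
  haveI : Nontrivial ↥(R.hom.ker ⊓ Subgroup.center (W m)) := (Subgroup.nontrivial_iff_ne_bot _).mpr hZ
  obtain ⟨k, hk⟩ := IsPGroup.iff_card.mp (hW.to_subgroup (R.hom.ker ⊓ Subgroup.center (W m)))
  have hk0 : k ≠ 0 := fun e => by
    have := Finite.one_lt_card (α := ↥(R.hom.ker ⊓ Subgroup.center (W m)))
    rw [hk, e] at this
    omega
  obtain ⟨⟨w, hw⟩, ho⟩ := exists_prime_orderOf_dvd_card' (G := ↥(R.hom.ker ⊓ Subgroup.center (W m))) 2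
    (hk ▸ dvd_pow_self 2 hk0)
  rw [Subgroup.orderOf_mk] at ho
  obtain ⟨hwk, hwc⟩ := Subgroup.mem_inf.mp hw
  have hwz := eq_zc hm h4 (w := w) (by rw [← sq, ← ho, pow_orderOf_eq_one])
    (fun e => by rw [e, orderOf_one] at ho; omega) (fun v => Subgroup.mem_center_iff.mp hwc v)
  rw [MonoidHom.mem_ker, hwz, R.hom_zc (by omega)] at hwk
  exact hz hwk

end generic

section concrete

open Cfsg.Lie CfsgLib.Chev

variable {F : Type*} [Field F] (Φ : Chev Cfsg.Lie.chevG2)

/-- A pair given by two matrices of equal nonzero determinant. -/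
noncomputable def mkPair (A B : Matrix (Fin 2) (Fin 2) F) (hA : A.det ≠ 0) (e : A.det = B.det) : Pair F :=
  ⟨(GeneralLinearGroup.mkOfDetNeZero A hA, GeneralLinearGroup.mkOfDetNeZero B (e ▸ hA)), mem_Pair.2 (Units.ext e)⟩

/-- The first matrix. -/
abbrev fst (u : Pair F) : Matrix (Fin 2) (Fin 2) F := u.1.1.1
/-- The second matrix. -/
abbrev snd (u : Pair F) : Matrix (Fin 2) (Fin 2) F := u.1.2.1

theorem fst_mkPair {A B : Matrix (Fin 2) (Fin 2) F} (hA : A.det ≠ 0) (e : A.det = B.det) :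
    fst (mkPair A B hA e) = A ∧ snd (mkPair A B hA e) = B := ⟨rfl, rfl⟩

theorem fst_pow (u : Pair F) (k : ℕ) : fst (u ^ k) = fst u ^ k ∧ snd (u ^ k) = snd u ^ k := by
  simp [fst, snd]

theorem xi_eq {u v : Pair F} (l : Fˣ) (e1 : fst u = (l : F) • fst v) (e2 : snd u = (l : F) • snd v) :
    Xi Φ u = Xi Φ v := by
  have e : u = scal l * v := by
    refine Subtype.ext (Prod.ext (Units.ext ?_) (Units.ext ?_))
    · show fst u = _
      rw [e1]
      ext i j
      fin_cases i <;> fin_cases j <;> simp [scal, scalarGL, fst, Matrix.mul_apply, Fin.sum_univ_two]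
    · show snd u = _
      rw [e2]
      ext i j
      fin_cases i <;> fin_cases j <;> simp [scal, scalarGL, snd, Matrix.mul_apply, Fin.sum_univ_two]
  have h1 : Xi Φ (scal l) = 1 := MonoidHom.mem_ker.1 (by rw [ker_Xi Φ]; exact ⟨l, rfl⟩)
  rw [e, map_mul, h1, one_mul]

/-- The representation of a quadratic extension. -/
def M (a b : F) : Matrix (Fin 2) (Fin 2) F := !![a, -b; b, a]

theorem M_mul (a b c d : F) : M a b * M c d = M (a * c - b * d) (a * d + b * c) := by
  ext i j; fin_cases i <;> fin_cases j <;> simp [M] <;> ring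

theorem M_pow {K : Type*} [Field K] [Algebra F K] {I : K} (hI : I * I = -1) (a b : F) (k : ℕ) :
    ∃ u v : F, M a b ^ k = M u v ∧
      (algebraMap F K a + algebraMap F K b * I) ^ k = algebraMap F K u + algebraMap F K v * I := by
  induction k with
  | zero => exact ⟨1, 0, by simp [M, Matrix.one_fin_two], by simp⟩
  | succ k ih =>
    obtain ⟨u, v, e1, e2⟩ := ih
    refine ⟨u * a - v * b, u * b + v * a, by rw [pow_succ, e1, M_mul], ?_⟩
    rw [pow_succ, e2]
    simp only [map_sub, map_add, map_mul]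
    linear_combination (algebraMap F K v * algebraMap F K b) * hI

include Φ

/-- The image of such relations in the Chevalley group. -/
theorem exists_rels {m n h : ℕ} [NeZero m] (hm2 : m = 2 ^ n) (hm : m = 2 * h) (h4 : 4 ≤ m) (h2 : (2 : F) ≠ 0)
    (X Y E S : Pair F) (lm le ls les lex ley lsx : Fˣ)
    (xm : fst X ^ m = (lm : F) • 1 ∧ snd X ^ m = (lm : F) • 1)
    (xy : fst X * fst Y = fst Y * fst X ∧ snd X * snd Y = snd Y * snd X)
    (ee : fst E * fst E = (le : F) • 1 ∧ snd E * snd E = (le : F) • 1)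
    (ss : fst S * fst S = (ls : F) • 1 ∧ snd S * snd S = (ls : F) • 1)
    (es : fst E * fst S = (les : F) • (fst S * fst E) ∧ snd E * snd S = (les : F) • (snd S * snd E))
    (ex : fst E * fst X * fst E * fst X = (lex : F) • 1 ∧ snd E * snd X * snd E * snd X = (lex : F) • 1)
    (ey : fst E * fst Y * fst E * fst Y = (ley : F) • 1 ∧ snd E * snd Y * snd E * snd Y = (ley : F) • 1)
    (sx : fst S * fst X * fst S = (lsx : F) • fst Y ∧ snd S * snd X * snd S = (lsx : F) • snd Y)
    (hz : ∃ c : F, c ≠ 0 ∧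
      ((fst X ^ h * fst Y ^ h = c • 1 ∧ snd X ^ h * snd Y ^ h = -c • 1) )) :
    ∃ f : W m →* ↥(Cfsg.Lie.chevG2.group F), Function.Injective f := by
  have R : Rels m (Xi Φ X) (Xi Φ Y) (Xi Φ E) (Xi Φ S) := by
    refine ⟨?_, ?_, ?_, ?_, ?_, eq_inv_of_mul_eq_one_left ?_, eq_inv_of_mul_eq_one_left ?_, ?_⟩
    · rw [← map_pow, ← map_one (Xi Φ (F := F))]
      exact xi_eq Φ lm (by rw [(fst_pow X m).1]; exact xm.1) (by rw [(fst_pow X m).2]; exact xm.2)
    · exact (show Commute X Y from Subtype.ext (Prod.ext (Units.ext xy.1) (Units.ext xy.2))).map _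
    · rw [← map_mul, ← map_one (Xi Φ (F := F))]; exact xi_eq Φ le ee.1 ee.2
    · rw [← map_mul, ← map_one (Xi Φ (F := F))]; exact xi_eq Φ ls ss.1 ss.2
    · rw [← map_mul, ← map_mul]; exact xi_eq Φ les es.1 es.2
    · rw [← map_mul, ← map_mul, ← map_mul, ← map_one (Xi Φ (F := F))]; exact xi_eq Φ lex ex.1 ex.2
    · rw [← map_mul, ← map_mul, ← map_mul, ← map_one (Xi Φ (F := F))]; exact xi_eq Φ ley ey.1 ey.2
    · rw [← map_mul, ← map_mul]; exact xi_eq Φ lsx sx.1 sx.2
  have hne : Xi Φ X ^ h * Xi Φ Y ^ h ≠ 1 := by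
    intro e
    rw [← map_pow, ← map_pow, ← map_mul, ← MonoidHom.mem_ker (f := Xi Φ (F := F)), ker_Xi Φ] at e
    obtain ⟨a, ha⟩ := e
    obtain ⟨c, hc, c1, c2⟩ := hz
    have t1 : fst (scal a) = fst X ^ h * fst Y ^ h := by
      rw [ha, ← (fst_pow X h).1, ← (fst_pow Y h).1]; rfl
    have t2 : snd (scal a) = snd X ^ h * snd Y ^ h := by
      rw [ha, ← (fst_pow X h).2, ← (fst_pow Y h).2]; rfl
    rw [c1] at t1
    rw [c2] at t2
    have u1 := congrArg (fun M => M 0 0) t1
    have u2 := congrArg (fun M => M 0 0) t2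
    simp [fst, snd, scal, scalarGL] at u1 u2
    exact mul_ne_zero h2 hc (by linear_combination u2 - u1)
  have hinj := R.hom_injective hm2 hm h4 hne
  have hmem : ∀ w, R.hom w ∈ Cfsg.Lie.chevG2.group F := by
    intro w
    have hx := fun u : Pair F => Xi_mem_group Φ u
    show Xi Φ X ^ w.i.val * Xi Φ Y ^ w.j.val *
      ((if w.e then Xi Φ E else 1) * (if w.s then Xi Φ S else 1)) ∈ _
    exact mul_mem (mul_mem (pow_mem (hx X) _) (pow_mem (hx Y) _))
      (mul_mem (by split <;> [exact hx E; exact one_mem _]) (by split <;> [exact hx S; exact one_mem _]))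
  exact ⟨R.hom.codRestrict _ hmem, fun a b e => hinj (congrArg Subtype.val e)⟩

theorem split_case {m n h : ℕ} [NeZero m] (hm2 : m = 2 ^ n) (hm : m = 2 * h) (h4 : 4 ≤ m) (h2 : (2 : F) ≠ 0)
    {ζ : F} (hζ : orderOf ζ = m) : ∃ f : W m →* ↥(Cfsg.Lie.chevG2.group F), Function.Injective f := by
  have hζ0 : ζ ≠ 0 := fun e => by
    rw [e, orderOf_zero] at hζ
    omega
  have hζm : ζ ^ m = 1 := hζ ▸ pow_orderOf_eq_one ζ
  have hζh : ζ ^ h = -1 := by
    rcases mul_self_eq_one_iff.1 (show ζ ^ h * ζ ^ h = 1 by rw [← pow_add, ← two_mul, ← hm, hζm]) with e | e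
    · exact absurd (Nat.le_of_dvd (by omega) (hζ ▸ orderOf_dvd_of_pow_eq_one e)) (by omega)
    · exact e
  have dp : ∀ (a b : F) (k : ℕ), (!![a, 0; 0, b] : Matrix (Fin 2) (Fin 2) F) ^ k = !![a ^ k, 0; 0, b ^ k] := by
    intro a b k
    induction k with
    | zero => simp [Matrix.one_fin_two]
    | succ k ih => rw [pow_succ, ih]; simp [Matrix.mul_fin_two, pow_succ]
  refine exists_rels Φ hm2 hm h4 h2
    (mkPair !![ζ, 0; 0, 1] !![1, 0; 0, ζ] (by simp [Matrix.det_fin_two, hζ0]) (by simp [Matrix.det_fin_two]))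
    (mkPair !![ζ, 0; 0, 1] !![ζ, 0; 0, 1] (by simp [Matrix.det_fin_two, hζ0]) rfl)
    (mkPair !![0, 1; -1, 0] !![0, 1; -1, 0] (by simp [Matrix.det_fin_two]) rfl)
    (mkPair !![1, 0; 0, -1] !![0, 1; 1, 0] (by simp [Matrix.det_fin_two]) (by simp [Matrix.det_fin_two]))
    1 (-1) 1 (-1) (-Units.mk0 ζ hζ0) (-Units.mk0 ζ hζ0) 1 ?_ ?_ ?_ ?_ ?_ ?_ ?_ ?_
    ⟨1, one_ne_zero, ?_⟩
  all_goals simp only [(fst_mkPair _ _).1, (fst_mkPair _ _).2, dp, Matrix.mul_fin_two, Matrix.one_fin_two, Matrix.smul_of,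
    Matrix.smul_cons, Matrix.smul_empty, smul_eq_mul]
  all_goals simp [hζm, hζh]

theorem nonsplit_case {m n h : ℕ} [NeZero m] (hm2 : m = 2 ^ n) (hm : m = 2 * h) (h4 : 4 ≤ m) (h2 : (2 : F) ≠ 0)
    {a b : F} (hab : a * a + b * b = -1) (hRm : M a b ^ m = -1) :
    ∃ f : W m →* ↥(Cfsg.Lie.chevG2.group F), Function.Injective f := by
  have hJ : (!![1, 0; 0, -1] : Matrix (Fin 2) (Fin 2) F) * !![1, 0; 0, -1] = 1 := by simp [Matrix.one_fin_two]
  set J : Matrix (Fin 2) (Fin 2) F := !![1, 0; 0, -1] with hJdef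
  have hconj : ∀ c d : F, J * M c d * J = M c (-d) := by
    intro c d; simp [hJdef, M]
  have hdet : ∀ c d : F, (M c d).det = c * c + d * d := fun c d => by simp [M, Matrix.det_fin_two]
  have hJd : J.det = -1 := by simp [hJdef, Matrix.det_fin_two]
  have hRb : M a (-b) ^ m = -1 := by
    have e : ∀ k : ℕ, M a (-b) ^ k = J * M a b ^ k * J := by
      intro k
      induction k with
      | zero => simp [hJ]
      | succ k ih =>
        rw [pow_succ, ih, ← hconj, pow_succ]
        simp only [mul_assoc]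
        rw [← mul_assoc J J, hJ, one_mul]
    rw [e, hRm]
    simp [hJ]
  have hprod : M a b * M a (-b) = -1 := by
    rw [M_mul, show a * a - b * -b = -1 by linear_combination hab, show a * -b + b * a = 0 by ring]
    simp [M, Matrix.one_fin_two]
  have hdh : M a b ^ h * M a b ^ h = -1 := by rw [← pow_add, ← two_mul, ← hm, hRm]
  have hcm : Commute (M a b) (M a (-b)) := by
    show _ * _ = _ * _
    rw [M_mul, M_mul]; congr 1 <;> ring
  refine exists_rels Φ hm2 hm h4 h2
    (mkPair (M a b) (M a b) (by rw [hdet, hab]; norm_num) rfl)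
    (mkPair (M a b) (M a (-b)) (by rw [hdet, hab]; norm_num) (by rw [hdet, hdet]; ring))
    (mkPair (J * M a b) (J * M a b * M 0 1) (by simp [hdet, hab, hJd])
      (by simp [hdet, hab, hJd]))
    (mkPair (M 0 1) (J * M a b) (by simp [hdet]) (by simp [hdet, hab, hJd]))
    (-1) (-1) (-1) (-1) 1 1 (-1) ?_ ?_ ?_ ?_ ?_ ?_ ?_ ?_ ⟨-1, by norm_num, ?_⟩
  all_goals simp only [(fst_mkPair _ _).1, (fst_mkPair _ _).2, Units.val_neg, Units.val_one, neg_one_smul, one_smul]
  · exact ⟨hRm, hRm⟩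
  · exact ⟨trivial, hcm.eq⟩
  rotate_right
  · refine ⟨hdh, ?_⟩
    rw [← hcm.mul_pow, hprod, show (-(-1 : F)) • (1 : Matrix (Fin 2) (Fin 2) F) = 1 by simp]
    have : Even h := by
      obtain ⟨k, rfl⟩ : ∃ k, n = k + 2 := ⟨n - 2, by
        by_contra hn
        have : 2 ^ n ≤ 2 ^ 1 := Nat.pow_le_pow_right two_pos (by omega)
        rw [pow_one] at this
        omega⟩
      exact ⟨2 ^ k, by rw [pow_succ, pow_succ] at hm2; omega⟩
    exact this.neg_one_pow
  all_goals constructor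
  all_goals
    simp [hJdef, M, Matrix.one_fin_two]
    try grind

end concrete

end CfsgLib.G2Sylow
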