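/-
Extremal conjugation in the transfer lemma of Thompson.
-/
import Mathlib

set_option autoImplicit false
set_option linter.unusedVariables false

open scoped commutatorElement

namespace CfsgLib.G2Sylow

/-- An involution outside a normal subgroup of a Sylow subgroup with cyclic quotient has an extremal conjugate
inside it. -/
theorem extremal {G : Type*} [Group G] [Finite G] [IsSimpleGroup G] (hG : ¬ IsMulCommutative G)
    (S : Sylow 2 G) (T : Subgroup G) (hTS : T ≤ S)
    [hTn : (T.subgroupOf (S : Subgroup G)).Normal]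
    (hcyc : IsCyclic (↥(S : Subgroup G) ⧸ T.subgroupOf (S : Subgroup G)))
    (y : G) (hy : orderOf y = 2) (hyS : y ∈ S) (hyT : y ∉ T) :
    ∃ g : G, g * y * g⁻¹ ∈ T ∧
      ¬ 2 ∣ ((S : Subgroup G) ⊓ Subgroup.centralizer {g * y * g⁻¹}).relIndex
          (Subgroup.centralizer {g * y * g⁻¹}) ∧
      ((S : Subgroup G) ⊓ Subgroup.centralizer {y}).map (MulAut.conj g).toMonoidHom ≤
        (S : Subgroup G) ⊓ Subgroup.centralizer {g * y * g⁻¹} := by
  classical
  set y' : G := y with hy'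
  have hy2 : y ^ 2 = 1 := hy ▸ pow_orderOf_eq_one y
  set Sg : Subgroup G := (S : Subgroup G) with hSg
  haveI := hcyc
  letI : CommGroup (↥Sg ⧸ T.subgroupOf Sg) := IsCyclic.commGroup
  set φ : ↥Sg →* ↥Sg ⧸ T.subgroupOf Sg := QuotientGroup.mk' (T.subgroupOf Sg) with hφ
  set u := φ ⟨y, hyS⟩ with hu
  have hu1 : u ≠ 1 := fun h => hyT (by
    rw [hu, hφ, QuotientGroup.mk'_apply, QuotientGroup.eq_one_iff] at h; exact h)
  have hu2 : u ^ 2 = 1 := by rw [hu, ← map_pow, show (⟨y, hyS⟩ : ↥Sg) ^ 2 = 1 from Subtype.ext hy2, map_one]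
  have huniq : ∀ a : ↥Sg ⧸ T.subgroupOf Sg, a ^ 2 = 1 → a ≠ 1 → a = u := by
    intro a ha ha1
    by_contra hne
    haveI := Fintype.ofFinite (↥Sg ⧸ T.subgroupOf Sg)
    have h1 := IsCyclic.card_pow_eq_one_le (α := ↥Sg ⧸ T.subgroupOf Sg) (n := 2) two_pos
    have h2 : ({1, a, u} : Finset (↥Sg ⧸ T.subgroupOf Sg)) ⊆ Finset.univ.filter (fun z => z ^ 2 = 1) := by
      intro z hz
      simp only [Finset.mem_insert, Finset.mem_singleton] at hz
      rcases hz with rfl | rfl | rfl <;> simp [ha, hu2]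
    have h3 := Finset.card_le_card h2
    have h4 : ({1, a, u} : Finset (↥Sg ⧸ T.subgroupOf Sg)).card = 3 :=
      Finset.card_eq_three.mpr ⟨1, a, u, Ne.symm ha1, Ne.symm hu1, hne, rfl⟩
    omega
  set Pr : G ⧸ Sg → Prop := fun q => ∀ x : G, (x : G ⧸ Sg) = q → x⁻¹ * y * x ∈ T with hPr
  have hindep : ∀ x x' : G, (x' : G ⧸ Sg) = x → x⁻¹ * y * x ∈ T → x'⁻¹ * y * x' ∈ T := by
    intro x x' he h
    have hs : x⁻¹ * x' ∈ Sg := QuotientGroup.eq.mp he.symm
    have := hTn.conj_mem ⟨_, hTS h⟩ h ⟨(x⁻¹ * x')⁻¹, Sg.inv_mem hs⟩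
    rw [Subgroup.mem_subgroupOf] at this
    simpa [mul_assoc] using this
  have hPiff : ∀ x : G, Pr (x : G ⧸ Sg) ↔ x⁻¹ * y * x ∈ T := fun x =>
    ⟨fun h => h x rfl, fun h x' he => hindep x x' he h⟩
  have hfixiff : ∀ x : G, y • (x : G ⧸ Sg) = x ↔ x⁻¹ * y * x ∈ Sg := fun x => by
    rw [MulAction.Quotient.smul_mk, smul_eq_mul]
    constructor
    · intro h
      have h1 : (y * x)⁻¹ * x ∈ Sg := QuotientGroup.eq.mp h
      have h2 := Sg.inv_mem h1
      simpa [mul_assoc] using h2
    · intro h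
      refine QuotientGroup.eq.mpr ?_
      have h2 := Sg.inv_mem h
      simpa [mul_assoc] using h2
  -- the transfer of `y`
  have hperfect : commutator G = ⊤ := by
    refine (IsSimpleGroup.eq_bot_or_eq_top_of_normal (commutator G) inferInstance).resolve_left fun h => hG ?_
    refine ⟨⟨fun a b => ?_⟩⟩
    have h1 : ⁅a, b⁆ ∈ (⊥ : Subgroup G) := h ▸ Subgroup.commutator_mem_commutator (Subgroup.mem_top a) (Subgroup.mem_top b)
    exact commutatorElement_eq_one_iff_mul_comm.mp (Subgroup.mem_bot.mp h1)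
  have htr : MonoidHom.transfer φ y = 1 :=
    MonoidHom.mem_ker.mp ((hperfect ▸ Abelianization.commutator_subset_ker (MonoidHom.transfer φ) : (⊤ : Subgroup G) ≤ _) (Subgroup.mem_top y))
  haveI := Fintype.ofFinite (Quotient (MulAction.orbitRel (Subgroup.zpowers y) (G ⧸ Sg)))
  rw [MonoidHom.transfer_eq_prod_quotient_orbitRel_zpowers_quot φ y] at htr
  set U : Finset (Quotient (MulAction.orbitRel (Subgroup.zpowers y) (G ⧸ Sg))) :=
    Finset.univ.filter (fun o => y • o.out = o.out ∧ ¬ Pr o.out) with hU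
  rw [Finset.prod_congr rfl (g := fun o => if o ∈ U then u else 1) (fun o _ => ?_), Finset.prod_ite_mem,
    Finset.univ_inter, Finset.prod_const] at htr
  swap
  · have hm : Function.minimalPeriod (fun z : G ⧸ Sg => y • z) o.out ∣ 2 :=
      Function.IsPeriodicPt.minimalPeriod_dvd (show (fun z : G ⧸ Sg => y • z)^[2] o.out = o.out by
        show y • y • o.out = o.out
        rw [smul_smul, ← sq, hy2, one_smul])
    have hfix : y • o.out = o.out ↔ Function.minimalPeriod (fun z : G ⧸ Sg => y • z) o.out = 1 :=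
      (Function.minimalPeriod_eq_one_iff_isFixedPt (f := fun z : G ⧸ Sg => y • z) (x := o.out)).symm
    have hout : ((o.out.out : G) : G ⧸ Sg) = o.out := QuotientGroup.out_eq' _
    rcases (Nat.dvd_prime Nat.prime_two).mp hm with h1 | h1
    · by_cases hT : o.out.out⁻¹ * y * o.out.out ∈ T
      · rw [if_neg]
        · rw [hφ, QuotientGroup.mk'_apply, QuotientGroup.eq_one_iff, Subgroup.mem_subgroupOf]
          simp only [h1, pow_one]
          exact hT
        · simp only [hU, Finset.mem_filter, not_and, not_not]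
          intro _ _
          rw [← hout]
          exact (hPiff _).mpr hT
      · rw [if_pos]
        · refine huniq _ ?_ ?_
          · rw [← map_pow, show (⟨_, _⟩ : ↥Sg) ^ 2 = 1 from Subtype.ext (by
              push_cast
              simp only [h1, pow_one]
              rw [show o.out.out⁻¹ * y * o.out.out = o.out.out⁻¹ * y * o.out.out⁻¹⁻¹ by rw [inv_inv], conj_pow, hy2]
              group), map_one]
          · rw [hφ, QuotientGroup.mk'_apply, ne_eq, QuotientGroup.eq_one_iff, Subgroup.mem_subgroupOf]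
            simp only [h1, pow_one]
            exact hT
        · simp only [hU, Finset.mem_filter, Finset.mem_univ, true_and]
          refine ⟨hfix.mpr h1, ?_⟩
          rw [← hout]
          exact fun h => hT ((hPiff _).mp h)
    · rw [if_neg]
      · rw [show (⟨_, _⟩ : ↥Sg) = 1 from Subtype.ext (by simp [h1, hy2]), map_one]
      · simp only [hU, Finset.mem_filter, not_and]
        intro _ h
        rw [hfix.mp h] at h1
        omega
  have hUeven : 2 ∣ U.card := by
    have := orderOf_dvd_of_pow_eq_one htr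
    rwa [orderOf_eq_prime hu2 hu1] at this
  -- the fixed cosets
  have hzfix : ∀ q : G ⧸ Sg, y • q = q → ∀ g : Subgroup.zpowers y, g • q = q := by
    rintro q hq ⟨_, k, rfl⟩
    show (y ^ k) • q = q
    have : y ∈ MulAction.stabilizer G q := hq
    exact Subgroup.zpow_mem _ this k
  have hcardU : U.card = Nat.card {q : G ⧸ Sg // y • q = q ∧ ¬ Pr q} := by
    rw [← Fintype.card_coe, ← Nat.card_eq_fintype_card]
    refine Nat.card_congr
      { toFun := fun o => ⟨o.1.out, (Finset.mem_filter.mp o.2).2⟩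
        invFun := fun q => ⟨⟦q.1⟧, ?_⟩
        left_inv := fun o => Subtype.ext (Quotient.out_eq _)
        right_inv := ?_ }
    all_goals
      have key : ∀ q : {q : G ⧸ Sg // y • q = q ∧ ¬ Pr q},
          (⟦q.1⟧ : Quotient (MulAction.orbitRel (Subgroup.zpowers y) (G ⧸ Sg))).out = q.1 := by
        intro q
        obtain ⟨g, hg⟩ := MulAction.orbitRel_apply.mp (Quotient.exact (Quotient.out_eq
          (⟦q.1⟧ : Quotient (MulAction.orbitRel (Subgroup.zpowers y) (G ⧸ Sg)))))
        rw [← hg]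
        exact hzfix _ q.2.1 g
    · exact Finset.mem_filter.mpr ⟨Finset.mem_univ _, by rw [key q]; exact q.2⟩
    · exact fun q => Subtype.ext (key q)
  have hodd : ¬ 2 ∣ Nat.card {q : G ⧸ Sg // y • q = q} := by
    haveI : Fact (Nat.Prime 2) := ⟨Nat.prime_two⟩
    have hp2 : IsPGroup 2 ↥(Subgroup.zpowers y) := IsPGroup.of_card (n := 1) (by rw [Nat.card_zpowers, hy, pow_one])
    have h1 := hp2.card_modEq_card_fixedPoints (G ⧸ Sg)
    have e : Nat.card (MulAction.fixedPoints ↥(Subgroup.zpowers y) (G ⧸ Sg)) = Nat.card {q : G ⧸ Sg // y • q = q} :=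
      Nat.card_congr (Equiv.subtypeEquivRight fun q => ⟨fun h => h ⟨y, Subgroup.mem_zpowers y⟩, fun h => hzfix q h⟩)
    rw [e] at h1
    intro h
    exact S.not_dvd_index ((Nat.modEq_zero_iff_dvd).mp (h1.trans (Nat.modEq_zero_iff_dvd.mpr h)))
  have hoddT : ¬ 2 ∣ Nat.card {q : G ⧸ Sg // Pr q} := by
    intro h
    refine hodd ?_
    have e : Nat.card {q : G ⧸ Sg // y • q = q} =
        Nat.card {q : G ⧸ Sg // Pr q} + Nat.card {q : G ⧸ Sg // y • q = q ∧ ¬ Pr q} := by
      rw [← Nat.card_sum]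
      refine Nat.card_congr ((Equiv.sumCompl (fun q : {q : G ⧸ Sg // y • q = q} => Pr q.1)).symm.trans (Equiv.sumCongr ?_ ?_))
      · exact (Equiv.subtypeSubtypeEquivSubtypeInter (fun q => y • q = q) Pr).trans (Equiv.subtypeEquivRight fun q =>
          ⟨fun h => h.2, fun h => by
            obtain ⟨x, rfl⟩ := QuotientGroup.mk_surjective q
            exact ⟨(hfixiff x).mpr (hTS ((hPiff x).mp h)), h⟩⟩)
      · exact (Equiv.subtypeSubtypeEquivSubtypeInter (fun q => y • q = q) (fun q => ¬ Pr q)).trans (Equiv.refl _)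
    rw [e]
    exact dvd_add h (hcardU ▸ hUeven)
  -- a Sylow subgroup of the centralizer acting on the good cosets
  haveI : Fact (Nat.Prime 2) := ⟨Nat.prime_two⟩
  set C := Subgroup.centralizer ({y} : Set G) with hC
  obtain ⟨Q, hQ⟩ := ((S.2.to_le (inf_le_left : Sg ⊓ C ≤ Sg)).of_equiv
    (Subgroup.subgroupOfEquivOfLe (inf_le_right : Sg ⊓ C ≤ C)).symm).exists_le_sylow
  let X : SubMulAction ↥(Q : Subgroup ↥C) (G ⧸ Sg) :=
    { carrier := {q | Pr q}
      smul_mem' := fun w q hq => by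
        obtain ⟨x, rfl⟩ := QuotientGroup.mk_surjective q
        show Pr ((((w : ↥C) : G) * x : G) : G ⧸ Sg)
        rw [hPiff, show (((w : ↥C) : G) * x)⁻¹ * y * (((w : ↥C) : G) * x) = x⁻¹ * y * x by
          have h := Subgroup.mem_centralizer_singleton_iff.mp (w : ↥C).2
          calc (((w : ↥C) : G) * x)⁻¹ * y * (((w : ↥C) : G) * x) = x⁻¹ * ((w : ↥C) : G)⁻¹ * (y * ((w : ↥C) : G)) * x := by group
            _ = x⁻¹ * y * x := by rw [← h]; group]
        exact (hPiff x).mp hq }
  obtain ⟨⟨q, hqX⟩, hqfix⟩ := Q.2.nonempty_fixed_point_of_prime_not_dvd_card ↥X hoddT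
  obtain ⟨x, rfl⟩ := QuotientGroup.mk_surjective q
  have hxT : x⁻¹ * y * x ∈ T := (hPiff x).mp hqX
  have hxQ : ∀ w ∈ (Q : Subgroup ↥C), x⁻¹ * (w : G) * x ∈ Sg := by
    intro w hw
    have h1 : (w : G) • (x : G ⧸ Sg) = x := congrArg Subtype.val (hqfix ⟨w, hw⟩)
    rw [MulAction.Quotient.smul_mk, smul_eq_mul] at h1
    have h2 := Sg.inv_mem (QuotientGroup.eq.mp h1)
    simpa [mul_assoc] using h2
  have hmap : ∀ w ∈ C, x⁻¹ * w * x ∈ Subgroup.centralizer ({x⁻¹ * y * x} : Set G) := by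
    intro w hw
    rw [Subgroup.mem_centralizer_singleton_iff] at hw ⊢
    calc x⁻¹ * w * x * (x⁻¹ * y * x) = x⁻¹ * (w * y) * x := by group
      _ = x⁻¹ * y * x * (x⁻¹ * w * x) := by rw [hw]; group
  refine ⟨x⁻¹, by rwa [inv_inv], ?_, ?_⟩
  · rw [inv_inv]
    set C' := Subgroup.centralizer ({x⁻¹ * y * x} : Set G) with hC'
    have hCC : C.map (MulAut.conj x⁻¹).toMonoidHom = C' := by
      refine le_antisymm ?_ fun w hw => ?_
      · rintro _ ⟨w, hw, rfl⟩; simpa using hmap w hw
      · refine ⟨x * w * x⁻¹, ?_, show x⁻¹ * (x * w * x⁻¹) * x⁻¹⁻¹ = w by group⟩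
        rw [SetLike.mem_coe, Subgroup.mem_centralizer_singleton_iff]
        have h := Subgroup.mem_centralizer_singleton_iff.mp hw
        calc x * w * x⁻¹ * y = x * (w * (x⁻¹ * y * x)) * x⁻¹ := by group
          _ = y * (x * w * x⁻¹) := by rw [h]; group
    set Q' := ((Q : Subgroup ↥C).map C.subtype).map (MulAut.conj x⁻¹).toMonoidHom with hQ'
    have hQS : Q' ≤ Sg ⊓ C' := by
      rintro _ ⟨_, ⟨w, hw, rfl⟩, rfl⟩
      exact Subgroup.mem_inf.mpr ⟨by simpa using hxQ w hw, by simpa using hmap w w.2⟩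
    intro hdvd
    refine Q.not_dvd_index ?_
    have e : Q'.relIndex C' = (Q : Subgroup ↥C).index := by
      rw [hQ', ← hCC, Subgroup.relIndex_map_map_of_injective _ _ (MulEquiv.injective (MulAut.conj x⁻¹))]
      rw [Subgroup.relIndex, Subgroup.subgroupOf, Subgroup.comap_map_eq_self_of_injective C.subtype_injective]
    rw [← e]
    exact hdvd.trans (Subgroup.relIndex_dvd_of_le_left _ hQS)
  · rw [inv_inv]
    rintro _ ⟨w, hw, rfl⟩
    have hw' := Subgroup.mem_inf.mp hw
    exact Subgroup.mem_inf.mpr ⟨by simpa using hxQ ⟨w, hw'.2⟩ (hQ (Subgroup.mem_subgroupOf.mpr hw)),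
      by simpa using hmap w hw'.2⟩

end CfsgLib.G2Sylow
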