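/-
The classes of involutions in a simple group with such a Sylow 2-subgroup.
-/
import Cfsg.Agent.Lib.G2Sylow.Model
import Cfsg.Agent.Lib.G2Sylow.Extremal
import Cfsg.Agent.Lib.AlmostCyclic.SylowTypes
import Cfsg.Agent.S0111

set_option autoImplicit false
set_option linter.unusedSectionVars false

open scoped commutatorElement

namespace CfsgLib.G2Sylow

universe u

variable {G : Type u} [Group G] [Finite G]

/-- A 2-group centralising an element central in a Sylow subgroup moves into it inside the centraliser. -/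
theorem into_sylow (S : Sylow 2 G) {z : G} (hz : ∀ s ∈ (S : Subgroup G), Commute s z) {Q : Subgroup G}
    (hQ : IsPGroup 2 Q) (hQz : ∀ q ∈ Q, Commute q z) :
    ∃ c : G, Commute c z ∧ ∀ q ∈ Q, c * q * c⁻¹ ∈ (S : Subgroup G) := by
  haveI : Fact (Nat.Prime 2) := ⟨Nat.prime_two⟩
  set C := Subgroup.centralizer ({z} : Set G)
  have hQC : Q ≤ C := fun q hq => Subgroup.mem_centralizer_singleton_iff.mpr (hQz q hq).eq
  have hSC : (S : Subgroup G) ≤ C := fun s hs => Subgroup.mem_centralizer_singleton_iff.mpr (hz s hs).eq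
  obtain ⟨R, hR⟩ := (hQ.of_equiv (Subgroup.subgroupOfEquivOfLe hQC).symm).exists_le_sylow
  obtain ⟨c, hc⟩ := MulAction.exists_smul_eq C R (S.subtype hSC)
  refine ⟨c, Subgroup.mem_centralizer_singleton_iff.mp c.2, fun q hq => ?_⟩
  have h1 : (⟨q, hQC hq⟩ : C) ∈ (R : Subgroup C) := hR (Subgroup.mem_subgroupOf.mpr hq)
  have h2 : c * ⟨q, hQC hq⟩ * c⁻¹ ∈ ((c • R : Sylow 2 C) : Subgroup C) := by
    rw [Sylow.smul_def, Sylow.pointwise_smul_def]
    exact ⟨_, h1, rfl⟩
  rw [hc] at h2
  exact h2

variable [IsSimpleGroup G]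

section
variable {m h : ℕ} [NeZero m] (hm : m = 2 * h) (h2 : Even h) (h4 : 4 ≤ m)
variable (S : Sylow 2 G) (ι : W m →* G) (hinj : Function.Injective ι) (hι : ι.range = (S : Subgroup G))

include hm h4 hinj hι

theorem mem_S (w : W m) : ι w ∈ (S : Subgroup G) := hι ▸ ⟨w, rfl⟩

theorem not_comm : ¬ IsMulCommutative G := fun hG => by
  have := hinj (show ι (refl 1 0 * rot 1 0) = ι (rot 1 0 * refl 1 0) by
    rw [map_mul, map_mul]; exact hG.is_comm.comm _ _)
  simp [mul_def, refl, rot, sg] at this
  have h3 : ((2 : ℕ) : ZMod m) = 0 := by push_cast; linear_combination -this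
  rw [ZMod.natCast_eq_zero_iff] at h3
  exact absurd (Nat.le_of_dvd two_pos h3) (by omega)

theorem not_index_two (M : Subgroup G) (hM : M.Normal) : M.index ≠ 2 := by
  intro e
  rcases hM.eq_bot_or_eq_top with h1 | h1
  · rw [h1, Subgroup.index_bot] at e
    have := Subgroup.card_le_card_group ι.range
    rw [← Nat.card_congr (MonoidHom.ofInjective hinj).toEquiv, card_W, e] at this
    nlinarith
  · rw [h1, Subgroup.index_top] at e
    omega

theorem into_image {Q : Subgroup (W m)} (hQ : Q.index = 2) :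
    Q.map ι ≤ (S : Subgroup G) ∧ (Q.map ι).relIndex (S : Subgroup G) = 2 := by
  refine ⟨hι ▸ Subgroup.map_le_range ι Q, ?_⟩
  rw [← hι, MonoidHom.range_eq_map, Subgroup.relIndex_map_map_of_injective _ _ hinj, Subgroup.relIndex_top_right, hQ]

/-- Thompson's transfer for a subgroup of index two. -/
theorem transfer {Q : Subgroup (W m)} (hQ : Q.index = 2) {w : W m} (hw : w * w = 1) (hw1 : w ∉ Q) :
    ∃ v ∈ Q, v * v = 1 ∧ v ≠ 1 ∧ IsConj (ι w) (ι v) := by
  obtain ⟨hle, hidx⟩ := into_image hm h4 S ι hinj hι hQ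
  have hne : w ≠ 1 := fun e => hw1 (e ▸ one_mem _)
  have ho : orderOf (ι w) = 2 := by
    rw [orderOf_injective ι hinj]
    exact orderOf_eq_prime (by rw [sq, hw]) hne
  rcases Cfsg.Agent.S0111.result S (Q.map ι) hle hidx (ι w) ho (mem_S hm h4 S ι hinj hι w)
    (fun ⟨v, hv, e⟩ => hw1 (hinj e ▸ hv)) with ⟨M, hM, hM2, -⟩ | ⟨g, v, hv, e⟩
  · exact absurd hM2 (not_index_two hm h4 S ι hinj hι M hM)
  · have h1 : orderOf (ι v) = 2 := by
      rw [e]
      rw [← ho]
      exact (MulAut.conj g).orderOf_eq (ι w)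
    rw [orderOf_injective ι hinj] at h1
    refine ⟨v, hv, by rw [← sq, ← h1, pow_orderOf_eq_one], fun e1 => ?_, isConj_iff.mpr ⟨g, e.symm⟩⟩
    rw [e1, orderOf_one] at h1
    omega

theorem central_z : ∀ s ∈ (S : Subgroup G), Commute s (ι (zc h)) := by
  intro s hs
  rw [← hι] at hs
  obtain ⟨w, rfl⟩ := hs
  exact (show Commute w (zc h) from zc_central hm w).map ι

theorem conj_of_rep {w r : W m} {c : W m} (e : c * w * c⁻¹ = r) : IsConj (ι w) (ι r) :=
  isConj_iff.mpr ⟨ι c, by rw [← map_inv, ← map_mul, ← map_mul, e]⟩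

theorem uc_swap : IsConj (ι (rot 0 (h : ZMod m))) (ι (uc h)) :=
  conj_of_rep hm h4 S ι hinj hι (c := swp) (by simp [mul_def, inv_def, swp, rot, sg])

/-- An element with the central one as a commutator in its centraliser and conjugate to it. -/
theorem squeeze {x a b : W m} (hxz : IsConj (ι x) (ι (zc h))) (hne : x ≠ zc h) (ha : Commute a x)
    (hb : Commute b x) (hab : a * b * a⁻¹ * b⁻¹ = zc h) : IsConj (ι (zc h)) (ι (uc h)) := by
  obtain ⟨g, hg⟩ := isConj_iff.mp hxz
  set z := ι (zc h)
  set Q := (Subgroup.closure ({a, b} : Set (W m))).map ι |>.map (MulAut.conj g).toMonoidHom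
  have hQ : IsPGroup 2 Q := by
    refine IsPGroup.map (IsPGroup.to_le S.2 ?_) _
    rw [← hι]
    exact Subgroup.map_le_range ι _
  have hQz : ∀ q ∈ Q, Commute q z := by
    rintro _ ⟨_, ⟨w, hw, rfl⟩, rfl⟩
    have hc : Commute w x := by
      induction hw using Subgroup.closure_induction with
      | mem y hy => rcases hy with rfl | rfl <;> assumption
      | one => exact Commute.one_left _
      | mul p q _ _ hp hq => exact hp.mul_left hq
      | inv p _ hp => exact hp.inv_left
    show Commute (g * ι w * g⁻¹) z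
    rw [← hg]
    exact (hc.map ι).map (MulAut.conj g).toMonoidHom
  obtain ⟨c, hc, hcS⟩ := into_sylow S (central_z hm h4 S ι hinj hι) hQ hQz
  have hmemS : ∀ w ∈ Subgroup.closure ({a, b} : Set (W m)), ∃ w', ι w' = (c * g) * ι w * (c * g)⁻¹ := by
    intro w hw
    have := hcS _ ⟨_, ⟨w, hw, rfl⟩, rfl⟩
    rw [← hι] at this
    obtain ⟨w', e⟩ := this
    refine ⟨w', e.trans ?_⟩
    show c * (g * ι w * g⁻¹) * c⁻¹ = _
    group
  obtain ⟨a', ea⟩ := hmemS a (Subgroup.subset_closure (by simp))
  obtain ⟨b', eb⟩ := hmemS b (Subgroup.subset_closure (by simp))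
  set k := c * g with hk
  obtain ⟨v, hv⟩ : ∃ v, v = a' * b' * a'⁻¹ * b'⁻¹ := ⟨_, rfl⟩
  have ev : ι v = k * z * k⁻¹ := by
    rw [hv, map_mul, map_mul, map_mul, map_inv, map_inv, ea, eb]
    show _ = k * ι (zc h) * k⁻¹
    rw [← hab, map_mul, map_mul, map_mul, map_inv, map_inv]
    group
  obtain ⟨he, hs⟩ := commutator_flags a' b'
  rw [← hv] at he hs
  have hzc : (zc h : W m) * zc h = 1 := by simp [mul_def, one_def, rot, sg, two_h hm]
  have hvv : v * v = 1 := hinj (by
    have e2 : z * z = 1 := by rw [← map_mul, hzc, map_one]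
    rw [map_mul, ev, map_one, show k * z * k⁻¹ * (k * z * k⁻¹) = k * (z * z) * k⁻¹ by group, e2]
    group)
  have hv1 : v ≠ 1 := fun e => by
    rw [e, map_one] at ev
    have h1 : z = 1 := conj_eq_one_iff.mp ev.symm
    exact h_ne hm (congrArg W.i (hinj (h1.trans (map_one ι).symm)))
  have hvz : v ≠ zc h := fun e => by
    rw [e] at ev
    refine hne (hinj ?_)
    have h1 : k * ι x * k⁻¹ = k * z * k⁻¹ := by
      rw [← ev, hk, show c * g * ι x * (c * g)⁻¹ = c * (g * ι x * g⁻¹) * c⁻¹ by group, hg,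
        hc.eq, mul_inv_cancel_right]
    exact mul_left_cancel (mul_right_cancel h1)
  obtain ⟨i, j, e, s⟩ := v
  simp only at he hs
  subst he hs
  simp [mul_def, one_def, sg] at hvv
  refine (isConj_iff.mpr ⟨k, ev.symm⟩ : IsConj z (ι ⟨i, j, false, false⟩)).trans ?_
  rcases two_torsion hm hvv.1 with rfl | rfl <;> rcases two_torsion hm hvv.2 with rfl | rfl
  · exact absurd rfl hv1
  · exact uc_swap hm h4 S ι hinj hι
  · exact IsConj.refl _
  · exact absurd rfl hvz

/-- The reflections of odd parity are conjugate. -/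
theorem odd_rep {i j : ZMod m} (hodd : par hm (i + j) = 1) : IsConj (ι (refl i j)) (ι (refl 1 0)) := by
  have p1 : ∀ x y : ZMod 2, x + y = 1 → x = 1 ∧ y = 0 ∨ x = 0 ∧ y = 1 := by decide
  have key : ∀ i j : ZMod m, par hm i = 1 → par hm j = 0 → IsConj (ι (refl i j)) (ι (refl 1 0)) := by
    intro i j e1 e2
    obtain ⟨a, ha⟩ := exists_half hm (1 - i) (by rw [map_sub, map_one, e1, sub_self])
    obtain ⟨b, hb⟩ := exists_half hm (0 - j) (by rw [map_sub, map_zero, e2, sub_self])
    refine conj_of_rep hm h4 S ι hinj hι (c := rot a b) ?_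
    simp [mul_def, inv_def, refl, rot, sg]
    constructor
    · linear_combination -ha
    · linear_combination -hb
  rw [map_add] at hodd
  rcases p1 _ _ hodd with ⟨e1, e2⟩ | ⟨e1, e2⟩
  · exact key i j e1 e2
  · exact (conj_of_rep hm h4 S ι hinj hι (c := swp) (r := refl j i)
      (by simp [mul_def, inv_def, swp, refl, sg])).trans (key j i e2 e1)

include h2

/-- The two kinds of rotation involutions are conjugate. -/
theorem conj_zu : IsConj (ι (zc h)) (ι (uc h)) := by
  classical
  by_contra hzu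
  set z := ι (zc h) with hzdef
  have two_k : ∃ k : ZMod m, k + k = (h : ZMod m) := by
    obtain ⟨k, hk⟩ := h2
    exact ⟨k, by rw [hk, Nat.cast_add]⟩
  obtain ⟨k, hk⟩ := two_k
  have hh := two_h hm
  have nh : -(h : ZMod m) = h := neg_eq_of_add_eq_zero_left hh
  have n00 : ¬ IsConj (ι (refl 0 0)) z := fun e => hzu (squeeze hm h4 S ι hinj hι (a := swp) (b := rot h 0) e
    (by simp [refl, rot]) (by simp [Commute, SemiconjBy, mul_def, swp, refl, sg])
    (by simp [Commute, SemiconjBy, mul_def, rot, refl, sg, nh])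
    (by simp [mul_def, inv_def, swp, rot, sg, nh]))
  have n11 : ¬ IsConj (ι (refl 1 1)) z := fun e => hzu (squeeze hm h4 S ι hinj hι (a := swp) (b := rot h 0) e
    (by simp [refl, rot]) (by simp [Commute, SemiconjBy, mul_def, swp, refl, sg])
    (by simp [Commute, SemiconjBy, mul_def, rot, refl, sg, nh, add_comm])
    (by simp [mul_def, inv_def, swp, rot, sg, nh]))
  have nσ : ¬ IsConj (ι swp) z := fun e => hzu (squeeze hm h4 S ι hinj hι (a := refl 0 0) (b := rot k k) e
    (by simp [swp, rot]) (by simp [Commute, SemiconjBy, mul_def, swp, refl, sg])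
    (by simp [Commute, SemiconjBy, mul_def, swp, rot, sg])
    (by simp [mul_def, inv_def, refl, rot, sg]; linear_combination -hh - hk))
  have nσ' : ¬ IsConj (ι swr) z := fun e => hzu (squeeze hm h4 S ι hinj hι (a := refl 0 0) (b := rot k (-k)) e
    (by simp [swr, rot]) (by simp [Commute, SemiconjBy, mul_def, swr, refl, sg])
    (by simp [Commute, SemiconjBy, mul_def, swr, rot, sg])
    (by simp [mul_def, inv_def, refl, rot, sg]; constructor
        · linear_combination -hh - hk
        · linear_combination hk))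
  -- the reflections of odd parity
  have n10 : ¬ IsConj (ι (refl 1 0)) z := by
    intro e
    obtain ⟨g, hg⟩ := isConj_iff.mp e
    have hcomm : ∀ v ∈ [rot (h : ZMod m) 0, rot 0 (h : ZMod m)], Commute (g * ι v * g⁻¹) z := by
      intro v hv
      rw [← hg]
      refine Commute.map (Commute.map ?_ ι) (MulAut.conj g).toMonoidHom
      simp at hv
      rcases hv with rfl | rfl <;> simp [Commute, SemiconjBy, mul_def, rot, refl, sg, nh, add_comm]
    set Q := ((Subgroup.closure ({rot (h : ZMod m) 0, rot 0 (h : ZMod m)} : Set (W m))).map ι).map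
      (MulAut.conj g).toMonoidHom
    have hQ : IsPGroup 2 Q := by
      refine IsPGroup.map (IsPGroup.to_le S.2 ?_) _
      rw [← hι]
      exact Subgroup.map_le_range ι _
    have hQz : ∀ q ∈ Q, Commute q z := by
      rintro _ ⟨_, ⟨w, hw, rfl⟩, rfl⟩
      induction hw using Subgroup.closure_induction with
      | mem y hy => exact hcomm y (by simpa using hy)
      | one => simp
      | mul p q _ _ hp hq => rw [map_mul, map_mul]; exact hp.mul_left hq
      | inv p _ hp => rw [map_inv, map_inv]; exact hp.inv_left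
    obtain ⟨c, hc, hcS⟩ := into_sylow S (central_z hm h4 S ι hinj hι) hQ hQz
    obtain ⟨k, hk⟩ : ∃ k, k = c * g := ⟨_, rfl⟩
    have hmemS : ∀ w ∈ ({rot (h : ZMod m) 0, rot 0 (h : ZMod m)} : Set (W m)), ∃ w', ι w' = k * ι w * k⁻¹ := by
      intro w hw
      have := hcS _ ⟨_, ⟨w, Subgroup.subset_closure hw, rfl⟩, rfl⟩
      rw [← hι] at this
      obtain ⟨w', e⟩ := this
      refine ⟨w', e.trans ?_⟩
      show c * (g * ι w * g⁻¹) * c⁻¹ = _
      rw [hk]; group
    obtain ⟨u₁, e₁⟩ := hmemS _ (Set.mem_insert _ _)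
    obtain ⟨u₂, e₂⟩ := hmemS _ (Set.mem_insert_of_mem _ rfl)
    obtain ⟨v, hv⟩ : ∃ v, v = u₁ * u₂ := ⟨_, rfl⟩
    have ev : ι v = k * z * k⁻¹ := by
      rw [hv, map_mul, e₁, e₂, hzdef, show zc h = rot (h : ZMod m) 0 * rot 0 h by simp [mul_def, rot, sg], map_mul]
      group
    have cu₁ : IsConj (ι u₁) (ι (uc h)) := (isConj_iff.mpr ⟨k, e₁.symm⟩).symm
    have cu₂ : IsConj (ι u₂) (ι (uc h)) :=
      (isConj_iff.mpr ⟨k, e₂.symm⟩ : IsConj _ (ι u₂)).symm.trans (uc_swap hm h4 S ι hinj hι)
    have cv : IsConj (ι v) z := (isConj_iff.mpr ⟨k, ev.symm⟩).symm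
    have hvz : v ≠ zc h := fun e1 => by
      rw [e1, ← hzdef] at ev
      have h1 : k * ι (refl 1 0) * k⁻¹ = k * z * k⁻¹ := by
        rw [← ev, hk, show c * g * ι (refl 1 0) * (c * g)⁻¹ = c * (g * ι (refl 1 0) * g⁻¹) * c⁻¹ by group, hg,
          hc.eq, mul_inv_cancel_right]
      simpa [refl, rot] using hinj (mul_left_cancel (mul_right_cancel h1))
    have inv2 : ∀ w, IsConj (ι w) (ι (uc h)) ∨ IsConj (ι w) z → w * w = 1 ∧ w ≠ 1 := by
      intro w hw
      have ho : ∀ r : W m, r * r = 1 → r ≠ 1 → IsConj (ι w) (ι r) → w * w = 1 ∧ w ≠ 1 := fun r hr hr1 hc => by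
        obtain ⟨g', hg'⟩ := isConj_iff.mp hc
        refine ⟨hinj ?_, fun e => hr1 (hinj ?_)⟩
        · have h1 : g' * (ι w * ι w) * g'⁻¹ = 1 := by
            rw [show g' * (ι w * ι w) * g'⁻¹ = (g' * ι w * g'⁻¹) * (g' * ι w * g'⁻¹) by group, hg', ← map_mul, hr,
              map_one]
          rw [map_mul, map_one]
          exact conj_eq_one_iff.mp h1
        · rw [← hg', e, map_one]; group
      rcases hw with hw | hw
      · exact ho _ (by simp [mul_def, one_def, rot, sg, hh]) (by simp [one_def, rot, h_ne hm]) hw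
      · exact ho _ (by simp [mul_def, one_def, rot, sg, hh]) (by simp [one_def, rot, h_ne hm]) hw
    obtain ⟨r, hr, d, hd⟩ := reps hm (inv2 v (Or.inr cv)).1 (inv2 v (Or.inr cv)).2
    have crz : IsConj (ι r) z := (conj_of_rep hm h4 S ι hinj hι hd).symm.trans cv
    simp only [List.mem_cons, List.not_mem_nil, or_false] at hr
    rcases hr with rfl | rfl | rfl | rfl | rfl | rfl | rfl
    · -- central
      refine hvz ?_
      have e3 : d * v = zc h * d := by rw [← hd]; group
      rw [← zc_central hm d] at e3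
      exact mul_left_cancel e3
    · exact hzu crz.symm
    · exact n00 crz
    · exact n11 crz
    · -- the product of two rotations or of odd reflections
      have hvr : ∃ i j, v = refl i j ∧ par hm (i + j) = 1 := by
        obtain ⟨i, j, e', s'⟩ := v
        obtain ⟨a, b, e'', s''⟩ := d
        cases e' <;> cases s' <;> cases e'' <;> cases s'' <;> simp [mul_def, inv_def, refl, sg] at hd ⊢
        all_goals
          have p1 := congrArg (par hm) hd.1
          have p2 := congrArg (par hm) hd.2
          simp only [map_add, map_sub, map_neg, map_one, map_zero, CharTwo.neg_eq, CharTwo.sub_eq_add] at p1 p2 ⊢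
          grind
      obtain ⟨i, j, rfl, hodd⟩ := hvr
      have hu : ∀ w, IsConj (ι w) (ι (uc h)) → Commute w (refl i j) → w.e = false ∧ w.s = false := by
        intro w hw hwc
        obtain ⟨hs, he⟩ := comm_odd hm h2 hodd hwc
        refine ⟨?_, hs⟩
        by_contra hne
        simp only [Bool.not_eq_false] at hne
        have hw' : w = refl w.i w.j := W.ext rfl rfl hne hs
        rw [hw'] at hw
        exact hzu (cv.symm.trans ((odd_rep hm h4 S ι hinj hι hodd).trans
          (((odd_rep hm h4 S ι hinj hι (he hne)).symm).trans hw)))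
      have hcom : ∀ w, (ι w = k * ι (rot (h : ZMod m) 0) * k⁻¹ ∨ ι w = k * ι (rot 0 (h : ZMod m)) * k⁻¹) →
          Commute w (refl i j) := by
        intro w hw
        refine hinj ?_
        rw [map_mul, map_mul, ev]
        rcases hw with hw | hw <;> rw [hw] <;>
          exact ((central_z hm h4 S ι hinj hι _ (mem_S hm h4 S ι hinj hι _)).map (MulAut.conj k).toMonoidHom).eq
      obtain ⟨f1, -⟩ := hu u₁ cu₁ (hcom u₁ (Or.inl e₁))
      obtain ⟨f2, -⟩ := hu u₂ cu₂ (hcom u₂ (Or.inr e₂))
      have := congrArg W.e hv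
      simp [mul_def, refl, f1, f2] at this
    · exact nσ crz
    · exact nσ' crz
  -- the central involution would be isolated
  refine CfsgLib.AlmostCyclic.no_isolated ?_ z ⟨?_, ?_⟩
  · intro hs
    refine not_comm hm h4 S ι hinj hι ⟨⟨fun a b => ?_⟩⟩
    exact (IsSimpleGroup.comm_iff_isSolvable (G := G)).mpr hs a b
  · rw [hzdef, orderOf_injective ι hinj]
    exact orderOf_eq_prime (by rw [sq]; simp [mul_def, one_def, rot, sg, hh]) (by simp [one_def, rot, h_ne hm])
  · intro g hg
    set w := g * z * g⁻¹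
    obtain ⟨c, hc, hcS⟩ := into_sylow S (central_z hm h4 S ι hinj hι) (Q := Subgroup.zpowers w) (by
      refine IsPGroup.of_card (n := 1) ?_
      rw [Nat.card_zpowers, pow_one, show w = MulAut.conj g z from rfl, MulEquiv.orderOf_eq, hzdef,
        orderOf_injective ι hinj]
      exact orderOf_eq_prime (by rw [sq]; simp [mul_def, one_def, rot, sg, hh]) (by simp [one_def, rot, h_ne hm]))
      (fun q hq => by obtain ⟨n, rfl⟩ := hq; exact (hg.symm).zpow_left n)
    have hw := hcS w (Subgroup.mem_zpowers w)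
    rw [← hι] at hw
    obtain ⟨v, hv⟩ := hw
    have cv : IsConj (ι v) z := by
      refine (isConj_iff.mpr ⟨c * g, ?_⟩ : IsConj z (ι v)).symm
      rw [hv]; simp only [w]; group
    have hvi : v * v = 1 ∧ v ≠ 1 := by
      have hz2 : z * z = 1 := by rw [hzdef, ← map_mul]; simp [mul_def, one_def, rot, sg, hh, ← one_def]
      refine ⟨hinj ?_, fun e => ?_⟩
      · rw [map_mul, hv, map_one, show c * w * c⁻¹ * (c * w * c⁻¹) = c * g * (z * z) * (c * g)⁻¹ by
          simp only [w]; group, hz2]
        group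
      · rw [e, map_one] at hv
        have h1 := conj_eq_one_iff.mp (conj_eq_one_iff.mp hv.symm)
        exact h_ne hm (congrArg W.i (hinj (h1.trans (map_one ι).symm)))
    obtain ⟨r, hr, d, hd⟩ := reps hm hvi.1 hvi.2
    have crz : IsConj (ι r) z := (conj_of_rep hm h4 S ι hinj hι hd).symm.trans cv
    simp only [List.mem_cons, List.not_mem_nil, or_false] at hr
    rcases hr with rfl | rfl | rfl | rfl | rfl | rfl | rfl
    · have e3 : d * v = zc h * d := by rw [← hd]; group
      rw [← zc_central hm d] at e3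
      rw [mul_left_cancel e3, ← hzdef] at hv
      have : c * z * c⁻¹ = c * w * c⁻¹ := by rw [← hv, hc.eq, mul_inv_cancel_right]
      exact (mul_left_cancel (mul_right_cancel this)).symm
    · exact absurd crz.symm hzu
    · exact absurd crz n00
    · exact absurd crz n11
    · exact absurd crz n10
    · exact absurd crz nσ
    · exact absurd crz nσ'

/-- There are at most two classes. -/
theorem two_classes : ∀ x : G, orderOf x = 2 → IsConj x (ι (zc h)) ∨ IsConj x (ι swp) := by
  intro x hx
  haveI : Fact (Nat.Prime 2) := ⟨Nat.prime_two⟩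
  obtain ⟨R, hR⟩ := (IsPGroup.of_card (n := 1)
    (show Nat.card (Subgroup.zpowers x) = 2 ^ 1 by rw [Nat.card_zpowers, hx, pow_one])).exists_le_sylow
  obtain ⟨g, hg⟩ := MulAction.exists_smul_eq G R S
  have hm' : g * x * g⁻¹ ∈ (S : Subgroup G) := by
    rw [← hg, Sylow.smul_def, Sylow.pointwise_smul_def]
    exact ⟨x, hR (Subgroup.mem_zpowers x), rfl⟩
  rw [← hι] at hm'
  obtain ⟨v, hv⟩ := hm'
  have hxv : IsConj x (ι v) := isConj_iff.mpr ⟨g, hv.symm⟩
  have ho : orderOf v = 2 := by
    rw [← orderOf_injective ι hinj, hv, show g * x * g⁻¹ = MulAut.conj g x from rfl, MulEquiv.orderOf_eq, hx]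
  have zu := conj_zu hm h2 h4 S ι hinj hι
  have base : ∀ w ∈ (Ke : Subgroup (W m)), w * w = 1 → w ≠ 1 →
      IsConj (ι w) (ι (zc h)) ∨ IsConj (ι w) (ι swp) := by
    intro w hw hw2 hw1
    obtain ⟨r, hr, d, hd⟩ := reps hm hw2 hw1
    have cr := conj_of_rep hm h4 S ι hinj hι hd
    have he : r.e = false := by
      rw [← hd]; simp [mul_def, inv_def, mem_Ke.mp hw]
    simp only [List.mem_cons, List.not_mem_nil, or_false] at hr
    rcases hr with rfl | rfl | rfl | rfl | rfl | rfl | rfl <;> simp [refl, swr, rot, swp] at he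
    · exact Or.inl cr
    · exact Or.inl (cr.trans zu.symm)
    · exact Or.inr cr
  by_cases hve : v ∈ (Ke : Subgroup (W m))
  · exact (base v hve (by rw [← sq, ← ho, pow_orderOf_eq_one]) (fun e => by rw [e, orderOf_one] at ho; omega)).imp
      hxv.trans hxv.trans
  · obtain ⟨w, hw, hw2, hw1, hvw⟩ :=
      transfer hm h4 S ι hinj hι index_Ke (by rw [← sq, ← ho, pow_orderOf_eq_one]) hve
    exact (base w hw hw2 hw1).imp (hxv.trans hvw).trans (hxv.trans hvw).trans

/-- Beyond order 64 the exchange is conjugate to the central involution. -/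
theorem swp_conj (h8 : 8 ≤ m) : IsConj (ι swp) (ι (zc h)) := by
  classical
  obtain ⟨hle, hidx⟩ := into_image hm h4 S ι hinj hι (index_Ks (m := m))
  haveI hn : (((Ks : Subgroup (W m)).map ι).subgroupOf (S : Subgroup G)).Normal :=
    Subgroup.normal_of_index_eq_two hidx
  have hcyc : IsCyclic (↥(S : Subgroup G) ⧸ ((Ks : Subgroup (W m)).map ι).subgroupOf (S : Subgroup G)) := by
    haveI : Fact (Nat.Prime 2) := ⟨Nat.prime_two⟩
    exact isCyclic_of_prime_card (p := 2) (by rw [← Subgroup.index_eq_card]; exact hidx)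
  have ho : orderOf (ι (swp : W m)) = 2 := by
    rw [orderOf_injective ι hinj]
    exact orderOf_eq_prime (by rw [sq]; simp [mul_def, one_def, swp, sg]) (by simp [one_def, swp])
  obtain ⟨g, hgT, -, hmap⟩ := extremal (not_comm hm h4 S ι hinj hι) S _ hle hcyc (ι swp) ho
    (mem_S hm h4 S ι hinj hι swp) (fun ⟨v, hv, e⟩ => by simp [hinj e, mem_Ks, swp] at hv)
  obtain ⟨v, hv, e⟩ := hgT
  have hconj : IsConj (ι swp) (ι v) := isConj_iff.mpr ⟨g, e.symm⟩
  have ov : orderOf v = 2 := by
    rw [← orderOf_injective ι hinj, e, show g * ι swp * g⁻¹ = MulAut.conj g (ι swp) from rfl, MulEquiv.orderOf_eq, ho]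
  obtain ⟨r, hr, d, hd⟩ := reps hm (w := v) (by rw [← sq, ← ov, pow_orderOf_eq_one])
    (fun e => by rw [e, orderOf_one] at ov; omega)
  have cr := conj_of_rep hm h4 S ι hinj hι hd
  have zu := conj_zu hm h2 h4 S ι hinj hι
  -- the centraliser of the exchange is too large for a reflection
  have hrefl : v.e = true → False := by
    intro hve
    let f : Bool × ZMod m × Bool → W m := fun p => ⟨p.2.1, p.2.1, p.1, p.2.2⟩
    have hf : ∀ p, Commute (f p) (swp : W m) := fun p => by
      obtain ⟨b, a, b'⟩ := p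
      cases b <;> cases b' <;> simp [f, Commute, SemiconjBy, mul_def, swp, sg]
    have hg' : ∀ p, ∃ w, ι w = g * ι (f p) * g⁻¹ ∧ Commute w v := by
      intro p
      have h1 : g * ι (f p) * g⁻¹ ∈ ((S : Subgroup G) ⊓ Subgroup.centralizer {g * ι swp * g⁻¹}) :=
        hmap ⟨ι (f p), Subgroup.mem_inf.mpr ⟨mem_S hm h4 S ι hinj hι _,
          Subgroup.mem_centralizer_singleton_iff.mpr ((hf p).map ι).eq⟩, rfl⟩
      obtain ⟨h1, h1'⟩ := Subgroup.mem_inf.mp h1
      rw [← hι] at h1
      obtain ⟨w, hw⟩ := h1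
      refine ⟨w, hw, hinj ?_⟩
      rw [map_mul, map_mul, hw, e]
      exact Subgroup.mem_centralizer_singleton_iff.mp h1'
    choose F hF hFc using hg'
    have finj : Function.Injective F := fun p q e' => by
      have h1 := mul_left_cancel (mul_right_cancel ((hF p).symm.trans ((congrArg ι e').trans (hF q))))
      have := hinj h1
      simp [f, Prod.ext_iff] at this ⊢
      tauto
    -- at most sixteen
    have hvs := mem_Ks.mp hv
    let χ : W m → Bool × Bool × Bool × Bool := fun w => (w.e, w.s,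
      decide ((w.i : ZMod m).val < h), decide (w.j.val < h))
    have χinj : Set.InjOn χ {w | Commute w v} := by
      rintro ⟨a, b, e1, s1⟩ hw ⟨a', b', e1', s1'⟩ hw' heq
      simp only [χ, Prod.mk.injEq, decide_eq_decide] at heq
      obtain ⟨rfl, rfl, ha, hb⟩ := heq
      obtain ⟨i, j, ev, sv⟩ := v
      simp only at hve hvs
      subst hve hvs
      have h1 : a - a' + (a - a') = 0 ∧ b - b' + (b - b') = 0 := by
        have e2 := (hw : Commute _ _).eq
        have e3 := (hw' : Commute _ _).eq
        cases e1 <;> cases s1 <;> simp [mul_def, sg] at e2 e3 <;>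
          exact ⟨by linear_combination e2.1 - e3.1, by linear_combination e2.2 - e3.2⟩
      have key : ∀ x y : ZMod m, x - y + (x - y) = 0 → (x.val < h ↔ y.val < h) → x = y := by
        intro x y e4 hiff
        rcases two_torsion hm e4 with e5 | e5
        · exact sub_eq_zero.mp e5
        · exfalso
          have hx : x.val = (h + y.val) % m := by
            rw [show x = (h : ZMod m) + y by rw [← e5]; ring, ZMod.val_add, ZMod.val_natCast,
              Nat.mod_eq_of_lt (by omega : h < m)]
          have := ZMod.val_lt y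
          have := ZMod.val_lt x
          by_cases hlt : y.val < h
          · rw [Nat.mod_eq_of_lt (by omega)] at hx
            omega
          · rw [Nat.mod_eq_sub_mod (by omega), Nat.mod_eq_of_lt (by omega)] at hx
            omega
      simp [key a a' h1.1 ha, key b b' h1.2 hb]
    have := Nat.card_le_card_of_injective (fun p => χ (F p))
      (fun p q e' => finj (χinj (hFc p) (hFc q) e'))
    simp only [Nat.card_prod, Nat.card_zmod, Nat.card_eq_fintype_card (α := Bool), Fintype.card_bool] at this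
    omega
  simp only [List.mem_cons, List.not_mem_nil, or_false] at hr
  have hs : r.s = false := by rw [← hd]; simp [mul_def, inv_def, mem_Ks.mp hv]
  have he : r.e = v.e := by rw [← hd]; simp [mul_def, inv_def]; cases d.e <;> cases v.e <;> rfl
  rcases hr with rfl | rfl | rfl | rfl | rfl | rfl | rfl <;> simp [refl, swr, rot, swp] at hs he
  · exact hconj.trans cr
  · exact (hconj.trans cr).trans zu.symm
  · exact (hrefl he).elim
  · exact (hrefl he).elim
  · exact (hrefl he).elim

end

end CfsgLib.G2Sylow
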