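/-
A Sylow 2-subgroup of G2(q), q odd, is isomorphic to the model.
-/
import Cfsg.Agent.Lib.G2Sylow.Embed

set_option autoImplicit false
set_option linter.unusedSectionVars false

namespace CfsgLib.G2Sylow

open Cfsg.Lie CfsgLib.Chev Matrix

universe u

variable {F : Type u} [Field F] [Fintype F]

theorem card_G2 (Φ : Chev Cfsg.Lie.chevG2) :
    Nat.card (Cfsg.Lie.chevG2.group F) = Fintype.card F ^ 6 * (Fintype.card F ^ 2 - 1) * (Fintype.card F ^ 6 - 1) := by
  have h := Φ.order_formula (F := F) (degs := [2, 6]) rfl (CfsgLib.Chev.cardHG2 Φ F) (CfsgLib.Chev.sumWG2 Φ)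
  rw [show Cfsg.Lie.chevG2.nroots / 2 = 6 from rfl, Nat.card_eq_fintype_card (α := F)] at h
  simp [Fin.prod_univ_succ, List.map, List.prod_cons, mul_assoc] at h ⊢
  exact h

/-- The two-power part of `q - 1` or `q + 1`, with the model inside the group. -/
theorem exists_embed (hF : Odd (Fintype.card F)) :
    ∃ n h : ℕ, ∃ _ : NeZero (2 ^ n), 2 ^ n = 2 * h ∧ Even h ∧ 4 ≤ 2 ^ n ∧
      (∃ r, Odd r ∧ Fintype.card F ^ 2 - 1 = 2 * 2 ^ n * r) ∧
      ∃ f : W (2 ^ n) →* ↥(Cfsg.Lie.chevG2.group F), Function.Injective f := by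
  classical
  set q := Fintype.card F with hq
  have hq1 : 1 < q := Fintype.one_lt_card
  have h2 := CfsgLib.G2Odd.two_ne_zero_of_odd hF
  haveI : NeZero (2 : F) := ⟨h2⟩
  have hchar : ringChar F ≠ 2 := fun e => h2 (by
    have := (ringChar.spec F 2).2 (by rw [e])
    exact_mod_cast this)
  let Φ := CfsgLib.Chev.chevG2
  have hq4 : q % 4 = 1 ∨ q % 4 = 3 := by
    have := Nat.odd_iff.1 hF; omega
  rcases hq4 with h4 | h4
  · obtain ⟨n, r, hr, hnr⟩ := Nat.exists_eq_two_pow_mul_odd (n := q - 1) (by omega)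
    have hn : 2 ≤ n := by
      by_contra hn
      interval_cases n <;> · have := Nat.odd_iff.1 hr; omega
    obtain ⟨k, rfl⟩ : ∃ k, n = k + 2 := ⟨n - 2, by omega⟩
    have hp : 1 ≤ 2 ^ k := Nat.one_le_two_pow
    have e4 : 2 ^ (k + 2) = 4 * 2 ^ k := by ring
    haveI hne : NeZero (2 ^ (k + 2)) := ⟨by positivity⟩
    refine ⟨k + 2, 2 ^ (k + 1), hne, by ring, ⟨2 ^ k, by ring⟩, by omega, ?_, ?_⟩
    · obtain ⟨r', hr', hnr'⟩ : ∃ r', Odd r' ∧ q + 1 = 2 * r' := ⟨(q + 1) / 2, Nat.odd_iff.2 (by omega), by omega⟩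
      refine ⟨r * r', hr.mul hr', ?_⟩
      rw [show q ^ 2 - 1 = (q + 1) * (q - 1) by rw [← Nat.sq_sub_sq, one_pow], hnr, hnr']
      ring
    · obtain ⟨g, hg⟩ := IsCyclic.exists_ofOrder_eq_natCard (α := Fˣ)
      have hgo : orderOf g = 2 ^ (k + 2) * r := by
        rw [hg, Nat.card_eq_fintype_card, Fintype.card_units, ← hq, hnr]
      refine split_case Φ rfl (h := 2 ^ (k + 1)) (by ring) (by omega) h2 (ζ := ((g ^ r : Fˣ) : F)) ?_
      rw [orderOf_units, orderOf_pow' _ (by have := hr.pos; omega), hgo, Nat.gcd_eq_right (Dvd.intro_left _ rfl),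
        Nat.mul_div_cancel _ hr.pos]
  · obtain ⟨n, r, hr, hnr⟩ := Nat.exists_eq_two_pow_mul_odd (n := q + 1) (by omega)
    have hn : 2 ≤ n := by
      by_contra hn
      interval_cases n <;> · have := Nat.odd_iff.1 hr; omega
    obtain ⟨k, rfl⟩ : ∃ k, n = k + 2 := ⟨n - 2, by omega⟩
    have hp : 1 ≤ 2 ^ k := Nat.one_le_two_pow
    have e4 : 2 ^ (k + 2) = 4 * 2 ^ k := by ring
    haveI hne : NeZero (2 ^ (k + 2)) := ⟨by positivity⟩
    refine ⟨k + 2, 2 ^ (k + 1), hne, by ring, ⟨2 ^ k, by ring⟩, by omega, ?_, ?_⟩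
    · obtain ⟨r', hr', hnr'⟩ : ∃ r', Odd r' ∧ q - 1 = 2 * r' := ⟨(q - 1) / 2, Nat.odd_iff.2 (by omega), by omega⟩
      refine ⟨r * r', hr.mul hr', ?_⟩
      rw [show q ^ 2 - 1 = (q + 1) * (q - 1) by rw [← Nat.sq_sub_sq, one_pow], hnr, hnr']
      ring
    · -- the quadratic extension
      have hns : ¬ IsSquare (-1 : F) := fun hsq => by
        have := FiniteField.isSquare_neg_one_iff.1 hsq
        omega
      haveI : Fact (∀ x : F, x ^ 2 ≠ (-1 : F) + 0 * x) := ⟨fun x e => hns ⟨x, by linear_combination -e⟩⟩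
      haveI : Fintype (QuadraticAlgebra F (-1 : F) 0) := Fintype.ofEquiv _ (QuadraticAlgebra.equivProd (-1 : F) 0).symm
      have hK : Fintype.card (QuadraticAlgebra F (-1 : F) 0) = q ^ 2 := by
        rw [Fintype.card_congr (QuadraticAlgebra.equivProd (-1 : F) 0), Fintype.card_prod, ← hq, sq]
      obtain ⟨g, hg⟩ := IsCyclic.exists_ofOrder_eq_natCard (α := (QuadraticAlgebra F (-1 : F) 0)ˣ)
      obtain ⟨r', hr', hnr'⟩ : ∃ r', Odd r' ∧ q - 1 = 2 * r' := ⟨(q - 1) / 2, Nat.odd_iff.2 (by omega), by omega⟩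
      have hgo : orderOf g = 2 * 2 ^ (k + 2) * (r * r') := by
        rw [hg, Nat.card_eq_fintype_card, Fintype.card_units, hK,
          show q ^ 2 - 1 = (q + 1) * (q - 1) by rw [← Nat.sq_sub_sq, one_pow], hnr, hnr']
        ring
      set ζ : (QuadraticAlgebra F (-1 : F) 0) := ((g ^ (r * r') : (QuadraticAlgebra F (-1 : F) 0)ˣ) :
        (QuadraticAlgebra F (-1 : F) 0)) with hζdef
      have hζo : orderOf ζ = 2 * 2 ^ (k + 2) := by
        rw [hζdef, orderOf_units, orderOf_pow' _ (by have := (hr.mul hr').pos; omega), hgo,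
          Nat.gcd_eq_right (Dvd.intro_left _ rfl), Nat.mul_div_cancel _ (hr.mul hr').pos]
      have hζm : ζ ^ (2 ^ (k + 2)) = -1 := by
        rcases mul_self_eq_one_iff.1 (show ζ ^ 2 ^ (k + 2) * ζ ^ 2 ^ (k + 2) = 1 by
          rw [← pow_add, ← two_mul, ← hζo, pow_orderOf_eq_one]) with e | e
        · exact absurd (Nat.le_of_dvd (by omega) (hζo ▸ orderOf_dvd_of_pow_eq_one e)) (by omega)
        · exact e
      -- norm
      let I : (QuadraticAlgebra F (-1 : F) 0) := ⟨0, 1⟩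
      have hI : I * I = -1 := by ext <;> simp [I, QuadraticAlgebra.re_one, QuadraticAlgebra.im_one]
      have hζ : ζ = algebraMap F (QuadraticAlgebra F (-1 : F) 0) ζ.re + algebraMap F (QuadraticAlgebra F (-1 : F) 0) ζ.im * I := by
        ext <;> simp [I, QuadraticAlgebra.algebraMap_eq]
      obtain ⟨u, v, eM, eζ⟩ := M_pow hI ζ.re ζ.im (2 ^ (k + 2))
      rw [← hζ, hζm] at eζ
      have hu : u = -1 ∧ v = 0 := by
        have e1 := congrArg QuadraticAlgebra.re eζ
        have e2 := congrArg QuadraticAlgebra.im eζ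
        simp [I, QuadraticAlgebra.algebraMap_eq, QuadraticAlgebra.re_one, QuadraticAlgebra.im_one] at e1 e2
        exact ⟨e1.symm, e2.symm⟩
      have hRm : M ζ.re ζ.im ^ 2 ^ (k + 2) = -1 := by
        rw [eM, hu.1, hu.2]; simp [M, Matrix.one_fin_two]
      -- the conjugate is the Frobenius power
      obtain ⟨p, hcp⟩ := CharP.exists F
      obtain ⟨d, hpp, hd⟩ := FiniteField.card F p
      haveI := Fact.mk hpp
      haveI : CharP (QuadraticAlgebra F (-1 : F) 0) p := (RingHom.charP_iff (algebraMap F (QuadraticAlgebra F (-1 : F) 0)) (RingHom.injective _) p).1 hcp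
      have hqp : q = p ^ (d : ℕ) := hd
      have hIq : I ^ q = -I := by
        obtain ⟨t, ht⟩ : ∃ t, q = 2 * (2 * t + 1) + 1 := ⟨q / 4, by omega⟩
        rw [ht, pow_succ, pow_mul, sq, hI, Odd.neg_one_pow ⟨t, rfl⟩, neg_one_mul]
      have hfrob : ∀ x : F, algebraMap F (QuadraticAlgebra F (-1 : F) 0) x ^ q = algebraMap F (QuadraticAlgebra F (-1 : F) 0) x := fun x => by
        rw [← map_pow, hq, FiniteField.pow_card]
      have hζq : ζ ^ q = algebraMap F (QuadraticAlgebra F (-1 : F) 0) ζ.re - algebraMap F (QuadraticAlgebra F (-1 : F) 0) ζ.im * I := by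
        conv_lhs => rw [hζ]
        rw [hqp, add_pow_char_pow, mul_pow, ← hqp, hfrob, hfrob, hIq]
        ring
      have hnorm : ζ.re * ζ.re + ζ.im * ζ.im = -1 := by
        refine (algebraMap F (QuadraticAlgebra F (-1 : F) 0)).injective ?_
        rw [map_add, map_mul, map_mul, map_neg, map_one]
        have e1 : ζ ^ (q + 1) = -1 := by
          rw [hnr, pow_mul, hζm, hr.neg_one_pow]
        rw [pow_succ, hζq] at e1
        nth_rewrite 3 [hζ] at e1
        linear_combination e1 + (algebraMap F (QuadraticAlgebra F (-1 : F) 0) ζ.im * algebraMap F (QuadraticAlgebra F (-1 : F) 0) ζ.im) * hI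
      exact nonsplit_case Φ rfl (h := 2 ^ (k + 1)) (by ring) (by omega) h2 hnorm hRm

/-- The Sylow 2-subgroups. -/
theorem exists_model (hF : Odd (Fintype.card F)) (P : Sylow 2 ↥(Cfsg.Lie.chevG2.group F)) :
    ∃ n h : ℕ, ∃ _ : NeZero (2 ^ n), 2 ^ n = 2 * h ∧ Even h ∧ 4 ≤ 2 ^ n ∧
      Nonempty (W (2 ^ n) ≃* ↥(P : Subgroup ↥(Cfsg.Lie.chevG2.group F))) := by
  classical
  obtain ⟨n, h, hne, hm, he, h4, ⟨r, hr, hrq⟩, f, hf⟩ := exists_embed hF
  haveI : Fact (Nat.Prime 2) := ⟨Nat.prime_two⟩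
  refine ⟨n, h, hne, hm, he, h4, ?_⟩
  set q := Fintype.card F with hq
  have hR : IsPGroup 2 f.range := IsPGroup.of_card (n := 2 + 2 * n) (by
    rw [← Nat.card_congr (MonoidHom.ofInjective hf).toEquiv, card_W]; ring)
  have hidx : ¬ 2 ∣ f.range.index := by
    have hG : Nat.card ↥(Cfsg.Lie.chevG2.group F) = 4 * (2 ^ n) ^ 2 * (q ^ 6 * (r * (r * (q ^ 4 + q ^ 2 + 1)))) := by
      rw [card_G2 CfsgLib.Chev.chevG2, ← hq]
      have h1 : 1 ≤ q ^ 2 := Nat.one_le_pow _ _ (Fintype.card_pos)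
      have h6 : q ^ 6 - 1 = (q ^ 2 - 1) * (q ^ 4 + q ^ 2 + 1) := by
        obtain ⟨s, hs⟩ : ∃ s, q ^ 2 = s + 1 := ⟨q ^ 2 - 1, by omega⟩
        have : q ^ 6 = s * (q ^ 4 + q ^ 2 + 1) + 1 := by
          rw [show q ^ 6 = (q ^ 2) ^ 3 by ring, show q ^ 4 = (q ^ 2) ^ 2 by ring, hs]; ring
        rw [show q ^ 2 - 1 = s by omega]
        omega
      rw [h6, hrq]
      ring
    have hc := f.range.card_mul_index
    rw [← Nat.card_congr (MonoidHom.ofInjective hf).toEquiv, card_W, hG] at hc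
    have hi := Nat.eq_of_mul_eq_mul_left (by positivity : 0 < 4 * (2 ^ n) ^ 2) hc
    rw [hi]
    intro hd
    exact Nat.not_even_iff_odd.2 (hF.pow.mul (hr.mul (hr.mul ((hF.pow.add_odd hF.pow).add_odd odd_one))))
      (even_iff_two_dvd.2 hd)
  exact ⟨(MonoidHom.ofInjective hf).trans ((hR.toSylow hidx).equiv P)⟩

end CfsgLib.G2Sylow
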